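import Cfsg.Agent.Lib.ZStar.Main
import Cfsg.Agent.Lib.Fusion.Series
import Cfsg.Agent.Lib.Fusion.Group
import Cfsg.Agent.Lib.Fusion.Alperin
import Cfsg.Agent.Lib.Elementary
import Mathlib.GroupTheory.SemidirectProduct
import Mathlib.GroupTheory.Transfer

/-!
Automorphisms centralising a Sylow `2`-subgroup of a group with trivial odd core: their `2`-groups
are abelian and have trivial automizers, so a perfect group of them generated by `2`-elements is
trivial.
-/

set_option autoImplicit false
set_option linter.unusedSectionVars false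
set_option maxHeartbeats 800000

namespace CfsgLib.CentSylow

open Cfsg Cfsg.FusionSystem
open scoped commutatorElement

variable {G : Type*} [Group G] [Finite G]

section Setting

variable (T : Subgroup (MulAut G))

/-- `G` extended by a group of its automorphisms. -/
abbrev Ext : Type _ := SemidirectProduct G ↥T T.subtype

variable {T}

instance : Finite ↥T :=
  Finite.of_injective (fun t : ↥T => (((t : MulAut G)) : G → G))
    (DFunLike.coe_injective.comp Subtype.val_injective)

instance : Finite (Ext T) := Finite.of_equiv _ SemidirectProduct.equivProd.symm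

variable (S : Sylow 2 G) (hfix : ∀ t ∈ T, ∀ s ∈ (S : Subgroup G), t s = s)

include hfix in
theorem fix_apply (t : ↥T) {s : G} (hs : s ∈ (S : Subgroup G)) : (t : MulAut G) s = s := hfix t t.2 s hs

/-- `S × T` inside the extension. -/
def extSylow : Subgroup (Ext T) where
  carrier := {h | h.left ∈ (S : Subgroup G)}
  one_mem' := (S : Subgroup G).one_mem
  mul_mem' {a b} ha hb := by
    show (a * b).left ∈ (S : Subgroup G)
    rw [SemidirectProduct.mul_left, Subgroup.coe_subtype, fix_apply S hfix a.right hb]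
    exact (S : Subgroup G).mul_mem ha hb
  inv_mem' {a} ha := by
    show a⁻¹.left ∈ (S : Subgroup G)
    rw [SemidirectProduct.inv_left, Subgroup.coe_subtype, fix_apply S hfix _ ((S : Subgroup G).inv_mem ha)]
    exact (S : Subgroup G).inv_mem ha

theorem mem_extSylow {h : Ext T} : h ∈ extSylow S hfix ↔ h.left ∈ (S : Subgroup G) := Iff.rfl

theorem inr_mem (t : ↥T) : (SemidirectProduct.inr t : Ext T) ∈ extSylow S hfix := by
  rw [mem_extSylow, SemidirectProduct.left_inr]
  exact (S : Subgroup G).one_mem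

include hfix in
/-- `T` centralises `S`. -/
theorem inr_comm_inl (t : ↥T) {s : G} (hs : s ∈ (S : Subgroup G)) :
    (SemidirectProduct.inr t * SemidirectProduct.inl s : Ext T) =
      SemidirectProduct.inl s * SemidirectProduct.inr t := by
  conv_rhs => rw [← fix_apply S hfix t hs]
  rw [show (SemidirectProduct.inl ((t : MulAut G) s) : Ext T) = _ from SemidirectProduct.inl_aut (φ := T.subtype) t s,
    map_inv, inv_mul_cancel_right]

theorem card_extSylow : Nat.card (extSylow S hfix) = Nat.card (S : Subgroup G) * Nat.card T := by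
  rw [← Nat.card_prod]
  exact Nat.card_congr
    { toFun := fun h => (⟨(h : Ext T).left, h.2⟩, (h : Ext T).right)
      invFun := fun x => ⟨⟨x.1, x.2⟩, x.1.2⟩
      left_inv := fun h => rfl
      right_inv := fun x => rfl }

theorem isPGroup_extSylow (hT : IsPGroup 2 T) : IsPGroup 2 (extSylow S hfix) := by
  obtain ⟨a, ha⟩ := S.2.exists_card_eq
  obtain ⟨b, hb⟩ := hT.exists_card_eq
  refine IsPGroup.of_card (n := a + b) ?_
  rw [card_extSylow, ha, hb, pow_add]

theorem not_dvd_index_extSylow : ¬ 2 ∣ (extSylow S hfix).index := by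
  haveI : Fact (Nat.Prime 2) := ⟨Nat.prime_two⟩
  have h := (extSylow S hfix).card_mul_index
  rw [card_extSylow, SemidirectProduct.card, ← (S : Subgroup G).card_mul_index] at h
  have h2 : (Nat.card (S : Subgroup G) * Nat.card T) * (extSylow S hfix).index =
      (Nat.card (S : Subgroup G) * Nat.card T) * (S : Subgroup G).index := by rw [h]; ring
  rw [Nat.eq_of_mul_eq_mul_left (Nat.mul_pos Nat.card_pos Nat.card_pos) h2]
  exact S.not_dvd_index

/-- The Sylow subgroup `S × T`. -/
def extSyl [Fact (Nat.Prime 2)] (hT : IsPGroup 2 T) : Sylow 2 (Ext T) :=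
  (isPGroup_extSylow S hfix hT).toSylow (not_dvd_index_extSylow S hfix)

theorem coe_extSyl [Fact (Nat.Prime 2)] (hT : IsPGroup 2 T) :
    (extSyl S hfix hT : Subgroup (Ext T)) = extSylow S hfix := rfl

/-- The fusion system of the extension. -/
abbrev sys : FusionSystem (extSylow S hfix) := groupFusionSystem (extSylow S hfix)

theorem saturated [Fact (Nat.Prime 2)] (hT : IsPGroup 2 T) : (sys S hfix).IsSaturated 2 :=
  groupFusionSystem_isSaturated (extSyl S hfix hT)

include hfix in
/-- An element of the Sylow subgroup centralises `T` up to `T`-conjugation. -/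
theorem conj_inr {h : Ext T} (hh : h ∈ extSylow S hfix) (t : ↥T) :
    h * SemidirectProduct.inr t * h⁻¹ = SemidirectProduct.inr (h.right * t * h.right⁻¹) := by
  rw [mem_extSylow] at hh
  set s : Ext T := SemidirectProduct.inl h.left with hs
  set r : Ext T := SemidirectProduct.inr h.right with hr
  have hh' : h = s * r := (SemidirectProduct.inl_left_mul_inr_right h).symm
  have hc : s * SemidirectProduct.inr (h.right * t * h.right⁻¹) =
      SemidirectProduct.inr (h.right * t * h.right⁻¹) * s := (inr_comm_inl S hfix _ hh).symm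
  conv_lhs => rw [hh']
  rw [show s * r * SemidirectProduct.inr t * (s * r)⁻¹ = s * (r * SemidirectProduct.inr t * r⁻¹) * s⁻¹ by group,
    hr, ← map_inv, ← map_mul, ← map_mul, hc, mul_inv_cancel_right]

/-- Isolated involutions of `T` act trivially. -/
theorem false_of_controlled [Fact (Nat.Prime 2)] (hO : pPrimeCore 2 G = ⊥) (hT : IsPGroup 2 T)
    (U : Subgroup ↥T) [hUn : U.Normal] (hU : U ≠ ⊥)
    (hctrl : ∀ P : Subgroup (Ext T), (P = extSylow S hfix ∨ (sys S hfix).IsEssential 2 P) →
      ∀ h ∈ Subgroup.normalizer (P : Set (Ext T)), ∀ u ∈ U, (SemidirectProduct.inr u : Ext T) ∈ P →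
        ∃ t : ↥T, h * SemidirectProduct.inr u * h⁻¹ = SemidirectProduct.inr (t * u * t⁻¹)) : False := by
  haveI := hT.isNilpotent
  obtain ⟨z, hz⟩ : ∃ z : ↥T, z ∈ U ⊓ Subgroup.center T ∧ z ≠ 1 := by
    by_contra hh
    push Not at hh
    exact CfsgLib.inf_center_ne_bot_of_nilpotent hU ((Subgroup.eq_bot_iff_forall _).mpr hh)
  obtain ⟨⟨w, hw⟩, hwo⟩ : ∃ w : ↥(U ⊓ Subgroup.center T : Subgroup ↥T), orderOf w = 2 := by
    refine exists_prime_orderOf_dvd_card' 2 ?_
    obtain ⟨k, hk⟩ := (hT.to_subgroup (U ⊓ Subgroup.center T)).exists_card_eq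
    rcases Nat.eq_zero_or_pos k with rfl | hk0
    · rw [pow_zero] at hk
      have := Subgroup.eq_bot_of_card_eq _ hk
      rw [this, Subgroup.mem_bot] at hz
      exact absurd hz.1 hz.2
    · rw [hk]; exact dvd_pow_self 2 hk0.ne'
  rw [Subgroup.orderOf_mk] at hwo
  obtain ⟨hwU, hwc⟩ := hw
  set U' : Set (Ext T) := (SemidirectProduct.inr : ↥T →* Ext T) '' U with hU'
  let r : Ext T → Ext T → Prop := fun x y =>
    x ∈ U' ∨ y ∈ U' → ∃ t : ↥T, y = SemidirectProduct.inr t * x * (SemidirectProduct.inr t)⁻¹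
  have hclosed : ∀ (t : ↥T) (x : Ext T), x ∈ U' → SemidirectProduct.inr t * x * (SemidirectProduct.inr t)⁻¹ ∈ U' := by
    rintro t _ ⟨u, hu, rfl⟩
    exact ⟨t * u * t⁻¹, hUn.conj_mem u hu t, by rw [map_mul, map_mul, map_inv]⟩
  have hsymm : ∀ {x y}, r x y → r y x := fun {x y} hxy h => by
    obtain ⟨t, rfl⟩ := hxy h.symm
    exact ⟨t⁻¹, by rw [map_inv]; group⟩
  have htrans : ∀ {x y z}, r x y → r y z → r x z := fun {x y z} hxy hyz h => by
    rcases h with h | h
    · obtain ⟨t, rfl⟩ := hxy (Or.inl h)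
      obtain ⟨t', rfl⟩ := hyz (Or.inl (hclosed t x h))
      exact ⟨t' * t, by rw [map_mul]; group⟩
    · obtain ⟨t', ht'⟩ := hsymm hyz (Or.inl h)
      obtain ⟨t, ht⟩ := hsymm hxy (Or.inl (ht' ▸ hclosed t' z h))
      refine ⟨(t * t')⁻¹, ?_⟩
      rw [ht, ht', map_inv, map_mul]
      group
  let E : FusionSystem (extSylow S hfix) :=
    { Hom := fun P => {φ | φ ∈ (sys S hfix).Hom P ∧ ∀ y : P, r y (φ y)}
      le_of_mem := fun h => (sys S hfix).le_of_mem h.1
      injective_of_mem := fun h => (sys S hfix).injective_of_mem h.1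
      conj_mem := fun {P s} hP hs => ⟨(sys S hfix).conj_mem hP hs, fun y => by
        intro hor
        refine ⟨s.right, ?_⟩
        show s * (y : Ext T) * s⁻¹ = _
        rcases hor with hy | hy
        · obtain ⟨u, -, e⟩ := hy
          rw [← e, conj_inr S hfix hs, map_mul, map_mul, map_inv]
        · obtain ⟨u, -, e⟩ := hy
          have e1 : (y : Ext T) = s⁻¹ * SemidirectProduct.inr u * s⁻¹⁻¹ := by
            rw [e]; show (y : Ext T) = s⁻¹ * (s * y * s⁻¹) * s⁻¹⁻¹; group
          rw [conj_inr S hfix ((extSylow S hfix).inv_mem hs), SemidirectProduct.inv_right] at e1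
          rw [e1, conj_inr S hfix hs, map_mul, map_mul, map_inv]⟩
      comp_mem := fun {P Q φ ψ} hφ hψ h => ⟨(sys S hfix).comp_mem hφ.1 hψ.1 h, fun y =>
        htrans (hφ.2 y) (hψ.2 ⟨φ y, h y⟩)⟩
      inv_mem := fun {P φ} hφ => by
        obtain ⟨ψ, hψ, hl⟩ := (sys S hfix).inv_mem hφ.1
        refine ⟨ψ, ⟨hψ, ?_⟩, hl⟩
        rintro ⟨_, y, rfl⟩
        rw [hl]
        exact hsymm (hφ.2 y) }
  have key : sys S hfix ≤ E := by
    refine (saturated S hfix hT).le_of_autGroup_le (isPGroup_extSylow S hfix hT) E fun P hP => ?_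
    have hPS : P ≤ extSylow S hfix := by
      rcases hP with rfl | hP
      exacts [le_rfl, hP.1.1]
    intro α hα
    refine (E.mem_autGroup_iff hPS).mpr ⟨((sys S hfix).mem_autGroup_iff hPS).mp hα, ?_⟩
    rw [show (sys S hfix).autGroup P = _ from autGroup_groupFusionSystem hPS] at hα
    obtain ⟨h, -, hN, he⟩ := mem_autInducedBy_iff.mp hα
    intro y hor
    show ∃ t : ↥T, ((α y : P) : Ext T) = (SemidirectProduct.inr t : Ext T) * (y : Ext T) * (SemidirectProduct.inr t : Ext T)⁻¹
    rcases hor with hy | hy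
    · obtain ⟨u, hu, e⟩ := hy
      obtain ⟨t, ht⟩ := hctrl P hP h hN u hu (e ▸ y.2)
      refine ⟨t, ?_⟩
      rw [he, ← e, ht, map_mul, map_mul, map_inv]
    · obtain ⟨u, hu, e⟩ := hy
      have e' : (SemidirectProduct.inr u : Ext T) = h * y * h⁻¹ := e.trans (he y)
      obtain ⟨t, ht⟩ := hctrl P hP h⁻¹ (Subgroup.inv_mem _ hN) u hu
        (e' ▸ (Subgroup.mem_normalizer_iff.mp hN y).mp y.2)
      refine ⟨t⁻¹, ?_⟩
      have e1 : (y : Ext T) = h⁻¹ * SemidirectProduct.inr u * h⁻¹⁻¹ := by rw [e']; group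
      rw [ht] at e1
      rw [he, ← e', e1, map_inv, map_mul, map_mul, map_inv]
      group
  -- the involution `w` is isolated
  have hworder : orderOf (SemidirectProduct.inr w : Ext T) = 2 := by
    rw [orderOf_injective (SemidirectProduct.inr : ↥T →* Ext T) SemidirectProduct.inr_injective, hwo]
  have hiso : ∀ g : Ext T, g * SemidirectProduct.inr w * g⁻¹ ∈ (extSyl S hfix hT : Subgroup (Ext T)) →
      g * SemidirectProduct.inr w * g⁻¹ = SemidirectProduct.inr w := by
    intro g hg
    have hmap : conjHom (Subgroup.zpowers (SemidirectProduct.inr w : Ext T)) g ∈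
        (sys S hfix).Hom (Subgroup.zpowers (SemidirectProduct.inr w : Ext T)) := by
      refine conjHom_mem_groupFusionSystem (Subgroup.zpowers_le.mpr (inr_mem S hfix w)) ?_
      rintro _ ⟨n, rfl⟩
      show g * (SemidirectProduct.inr w : Ext T) ^ n * g⁻¹ ∈ _
      rw [← conj_zpow]
      exact zpow_mem hg n
    obtain ⟨t, ht⟩ := (key _ hmap).2 ⟨_, Subgroup.mem_zpowers _⟩ (Or.inl ⟨w, hwU, rfl⟩)
    refine (show g * (SemidirectProduct.inr w : Ext T) * g⁻¹ = _ from ht).trans ?_
    rw [← map_inv, ← map_mul, ← map_mul, Subgroup.mem_center_iff.mp hwc t, mul_inv_cancel_right]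
  have hcm := CfsgLib.ZStar.commutator_mem hworder
    (CfsgLib.ZStar.isolated_of_sylow (extSyl S hfix hT) hworder (inr_mem S hfix w) hiso)
  have hkey : ∀ g : G, (w : MulAut G) g = g := by
    intro g
    have h1 := hcm (SemidirectProduct.inl g)
    rw [show (SemidirectProduct.inr w * SemidirectProduct.inl g * (SemidirectProduct.inr w)⁻¹ : Ext T) =
      SemidirectProduct.inl ((w : MulAut G) g) from by
        rw [← map_inv]; exact (SemidirectProduct.inl_aut (φ := T.subtype) w g).symm,
      ← map_inv, ← map_mul] at h1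
    have hle : (pPrimeCore 2 (Ext T)).comap (SemidirectProduct.inl : G →* Ext T) ≤ pPrimeCore 2 G := by
      refine CfsgLib.le_pPrimeCore (Nat.Coprime.coprime_dvd_left ?_ (CfsgLib.card_pPrimeCore_coprime (G := Ext T) 2))
      refine Subgroup.card_dvd_of_injective
        ((SemidirectProduct.inl : G →* Ext T).subgroupComap (pPrimeCore 2 (Ext T))) ?_
      intro a b e
      exact Subtype.ext (SemidirectProduct.inl_injective (congrArg Subtype.val e))
    have h2 := hle h1
    rw [hO, Subgroup.mem_bot, mul_inv_eq_one] at h2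
    exact h2
  have hw1 : w = 1 := Subtype.ext (MulEquiv.ext hkey)
  rw [hw1, orderOf_one] at hwo
  exact absurd hwo (by norm_num)

/-- Images of `T` under normalizers of subgroups of `S × T` containing it. -/
theorem image_inr {P : Subgroup (Ext T)} (hPS : P ≤ extSylow S hfix)
    (hTP : ∀ t : ↥T, (SemidirectProduct.inr t : Ext T) ∈ P) {h : Ext T}
    (hN : h ∈ Subgroup.normalizer (P : Set (Ext T))) (t : ↥T) :
    ∃ a : G, a ∈ (S : Subgroup G) ∧ (SemidirectProduct.inl a : Ext T) ∈ P ∧
      h * SemidirectProduct.inr t * h⁻¹ =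
        SemidirectProduct.inl a * SemidirectProduct.inr (h.right * t * h.right⁻¹) ∧
      ∀ x ∈ (S : Subgroup G), (SemidirectProduct.inl x : Ext T) ∈ P → x * a = a * x := by
  have hp := (Subgroup.mem_normalizer_iff.mp hN _).mp (hTP t)
  set p := h * SemidirectProduct.inr t * h⁻¹ with hpdef
  have hr : p.right = h.right * t * h.right⁻¹ := by simp [hpdef]
  have hdec : p = SemidirectProduct.inl p.left * SemidirectProduct.inr (h.right * t * h.right⁻¹) := by
    rw [← hr]; exact (SemidirectProduct.inl_left_mul_inr_right p).symm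
  refine ⟨p.left, hPS hp, ?_, hdec, fun x hx hxP => ?_⟩
  · have h2 := P.mul_mem hp (P.inv_mem (hTP (h.right * t * h.right⁻¹)))
    conv at h2 => arg 2; rw [hdec, mul_inv_cancel_right]
    exact h2
  · have hx' := (Subgroup.mem_normalizer_iff''.mp hN _).mp hxP
    set q := h⁻¹ * SemidirectProduct.inl x * h with hqdef
    have hqr : q.right = 1 := by simp [hqdef]
    have hq : q = SemidirectProduct.inl q.left := by
      conv_lhs => rw [← SemidirectProduct.inl_left_mul_inr_right q, hqr, map_one, mul_one]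
    have h1 : (SemidirectProduct.inr t : Ext T) * q = q * SemidirectProduct.inr t := by
      rw [hq]; exact inr_comm_inl S hfix t (hPS hx')
    have h2 : p * SemidirectProduct.inl x = SemidirectProduct.inl x * p := by
      calc p * SemidirectProduct.inl x = h * (SemidirectProduct.inr t * q) * h⁻¹ := by rw [hpdef, hqdef]; group
        _ = h * (q * SemidirectProduct.inr t) * h⁻¹ := by rw [h1]
        _ = SemidirectProduct.inl x * p := by rw [hpdef, hqdef]; group
    rw [hdec, mul_assoc, inr_comm_inl S hfix _ hx, ← mul_assoc, ← map_mul, ← mul_assoc, ← map_mul] at h2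
    exact (SemidirectProduct.inl_injective (mul_right_cancel h2)).symm

/-- Essential subgroups contain `T`. -/
theorem inr_mem_of_essential [Fact (Nat.Prime 2)] (hT : IsPGroup 2 T) {P : Subgroup (Ext T)}
    (hP : (sys S hfix).IsEssential 2 P) (t : ↥T) : (SemidirectProduct.inr t : Ext T) ∈ P := by
  haveI := hT.isNilpotent
  have hS := isPGroup_extSylow S hfix hT
  have hPS := hP.1.1
  -- elements of `T` normalising `P` lie in `P`
  have hin : ∀ g : ↥T, (SemidirectProduct.inr g : Ext T) ∈ Subgroup.normalizer (P : Set (Ext T)) →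
      (SemidirectProduct.inr g : Ext T) ∈ P := by
    intro g hg
    obtain ⟨n, hn⟩ : ∃ n, (⊤ : Subgroup ↥T).lowerCentralSeries n = ⊥ :=
      ⟨_, Subgroup.lowerCentralSeries_nilpotencyClass⟩
    let ρ : P →* ↥T := SemidirectProduct.rightHom.comp P.subtype
    let C : Fin (n + 2) → Subgroup P :=
      Fin.cons ⊥ fun i : Fin (n + 1) => ((⊤ : Subgroup ↥T).lowerCentralSeries (n - i.val)).comap ρ
    refine mem_of_invariant_series hS hP.1 (hP.isRadical hS (saturated S hfix hT)) C rfl ?_ ?_
      ⟨inr_mem S hfix g, hg⟩ ?_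
    · show C (Fin.last (n + 1)) = ⊤
      rw [← Fin.succ_last, show C (Fin.last n).succ = _ from Fin.cons_succ _ _ _]
      simp only [Fin.val_last, Nat.sub_self, Subgroup.lowerCentralSeries_zero, Subgroup.comap_top]
    · intro α hα i x hx
      rw [show (sys S hfix).autGroup P = _ from autGroup_groupFusionSystem hPS] at hα
      obtain ⟨h, -, -, he⟩ := mem_autInducedBy_iff.mp hα
      induction i using Fin.cases with
      | zero =>
        simp only [C, Fin.cons_zero, Subgroup.mem_bot] at hx ⊢
        rw [hx, map_one]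
      | succ i =>
        simp only [C, Fin.cons_succ, Subgroup.mem_comap] at hx ⊢
        have : ρ (α x) = h.right * ρ x * h.right⁻¹ := by
          show ((α x : P) : Ext T).right = _
          rw [he]
          simp [ρ]
        rw [this]
        exact (inferInstance : ((⊤ : Subgroup ↥T).lowerCentralSeries (n - i.val)).Normal).conj_mem _ hx _
    · intro i x hx hmem
      induction i using Fin.cases with
      | zero =>
        simp only [C, Fin.castSucc_zero, Fin.cons_zero, Subgroup.mem_bot]
        simp only [C, Fin.cons_succ, Subgroup.mem_comap, Fin.val_zero, Nat.sub_zero, hn, Subgroup.mem_bot] at hx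
        have hx1 : (x : Ext T).right = 1 := hx
        refine Subtype.ext ?_
        push_cast
        have e : (x : Ext T) = SemidirectProduct.inl (x : Ext T).left := by
          conv_lhs => rw [← SemidirectProduct.inl_left_mul_inr_right (x : Ext T), hx1, map_one, mul_one]
        rw [e, inr_comm_inl S hfix g (hPS x.2), mul_inv_cancel_right, inv_mul_cancel]
      | succ j =>
        simp only [C, Fin.cons_succ, Subgroup.mem_comap, Fin.val_succ] at hx
        show _ ∈ C j.succ.castSucc
        rw [← Fin.succ_castSucc]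
        simp only [C, Fin.cons_succ, Subgroup.mem_comap, Fin.val_castSucc]
        have e : ρ (x⁻¹ * ⟨SemidirectProduct.inr g * (x : Ext T) * (SemidirectProduct.inr g)⁻¹, hmem⟩) =
            ⁅(ρ x)⁻¹, g⁆ := by
          rw [map_mul, map_inv, commutatorElement_def, inv_inv]
          show (x : Ext T).right⁻¹ * ((SemidirectProduct.inr g * (x : Ext T) * (SemidirectProduct.inr g)⁻¹).right) = _
          simp [ρ, mul_assoc]
        rw [e, show n - j.val = n - (j.val + 1) + 1 by omega, Subgroup.lowerCentralSeries_succ]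
        exact Subgroup.commutator_mem_commutator (Subgroup.inv_mem _ hx) (Subgroup.mem_top g)
  by_contra ht
  set W := (SemidirectProduct.inr : ↥T →* Ext T).range with hW
  have hWS : W ≤ extSylow S hfix := by
    rintro _ ⟨u, rfl⟩; exact inr_mem S hfix u
  have hWn : extSylow S hfix ≤ Subgroup.normalizer (W : Set (Ext T)) := by
    intro s hs
    refine Subgroup.mem_normalizer_iff.mpr fun x => ⟨?_, ?_⟩
    · rintro ⟨u, rfl⟩
      exact ⟨_, (conj_inr S hfix hs u).symm⟩
    · rintro ⟨u, hu⟩
      refine ⟨s.right⁻¹ * u * s.right, ?_⟩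
      have e : x = s⁻¹ * SemidirectProduct.inr u * s⁻¹⁻¹ := by rw [hu]; group
      rw [e, conj_inr S hfix ((extSylow S hfix).inv_mem hs), SemidirectProduct.inv_right, inv_inv]
  have hlt : P < P ⊔ W := lt_of_le_of_ne le_sup_left fun e => ht (e ▸ Subgroup.mem_sup_right ⟨t, rfl⟩)
  haveI : Finite ↥(P ⊔ W) := inferInstance
  obtain ⟨g, hg, hgP⟩ := SetLike.exists_of_lt
    (lt_normalizerIn (hS.to_le (sup_le hPS hWS)) hlt)
  obtain ⟨hgS, hgN⟩ := hg
  have hgS' : g ∈ ((P ⊔ W : Subgroup (Ext T)) : Set (Ext T)) := hgS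
  rw [Subgroup.coe_mul_of_left_le_normalizer_right P W (hPS.trans hWn)] at hgS'
  obtain ⟨p, hp, _, ⟨u, rfl⟩, rfl⟩ := hgS'
  refine hgP (P.mul_mem hp (hin u ?_))
  have := Subgroup.mul_mem _ (Subgroup.inv_mem _ (Subgroup.le_normalizer hp)) hgN
  rwa [inv_mul_cancel_left] at this

theorem inr_mem_of_either [Fact (Nat.Prime 2)] (hT : IsPGroup 2 T) {P : Subgroup (Ext T)}
    (hP : P = extSylow S hfix ∨ (sys S hfix).IsEssential 2 P) (t : ↥T) :
    (SemidirectProduct.inr t : Ext T) ∈ P := by
  rcases hP with rfl | hP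
  exacts [inr_mem S hfix t, inr_mem_of_essential S hfix hT hP t]

end Setting

/-- A `2`-group of automorphisms centralising a Sylow `2`-subgroup is abelian. -/
theorem comm_of_fix (hO : pPrimeCore 2 G = ⊥) (S : Sylow 2 G) {T : Subgroup (MulAut G)} (hT : IsPGroup 2 T)
    (hfix : ∀ t ∈ T, ∀ s ∈ (S : Subgroup G), t s = s) : ∀ a b : ↥T, a * b = b * a := by
  haveI : Fact (Nat.Prime 2) := ⟨Nat.prime_two⟩
  intro a b
  by_contra hab
  refine false_of_controlled S hfix hO hT (commutator ↥T) (fun e => hab ?_) fun P hP h hN u hu _ => ?_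
  · have h1 : ⁅a, b⁆ ∈ commutator ↥T :=
      Subgroup.commutator_mem_commutator (Subgroup.mem_top a) (Subgroup.mem_top b)
    rw [e, Subgroup.mem_bot] at h1
    exact commutatorElement_eq_one_iff_mul_comm.mp h1
  have hPS : P ≤ extSylow S hfix := by
    rcases hP with rfl | hP
    exacts [le_rfl, hP.1.1]
  refine ⟨h.right, ?_⟩
  suffices hle : commutator ↥T ≤ ((MulAut.conj h).toMonoidHom.comp SemidirectProduct.inr).eqLocus
      ((SemidirectProduct.inr : ↥T →* Ext T).comp (MulAut.conj h.right).toMonoidHom) by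
    have h1 : MulAut.conj h (SemidirectProduct.inr u) = SemidirectProduct.inr (MulAut.conj h.right u) := hle hu
    simpa using h1
  rw [commutator_def, Subgroup.commutator_le]
  intro x _ y _
  obtain ⟨α, hαS, hαP, hα, hαc⟩ := image_inr S hfix hPS (inr_mem_of_either S hfix hT hP) hN x
  obtain ⟨β, hβS, hβP, hβ, hβc⟩ := image_inr S hfix hPS (inr_mem_of_either S hfix hT hP) hN y
  show MulAut.conj h (SemidirectProduct.inr ⁅x, y⁆) = SemidirectProduct.inr (MulAut.conj h.right ⁅x, y⁆)
  rw [map_commutatorElement, map_commutatorElement, map_commutatorElement, map_commutatorElement,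
    MulAut.conj_apply, MulAut.conj_apply, hα, hβ, MulAut.conj_apply, MulAut.conj_apply]
  set A : Ext T := SemidirectProduct.inl α with hA
  set B : Ext T := SemidirectProduct.inl β with hB
  set X : Ext T := SemidirectProduct.inr (h.right * x * h.right⁻¹) with hX
  set Y : Ext T := SemidirectProduct.inr (h.right * y * h.right⁻¹) with hY
  have hAX : Commute A X := (inr_comm_inl S hfix _ hαS).symm
  have hAY : Commute A Y := (inr_comm_inl S hfix _ hαS).symm
  have hBX : Commute B X := (inr_comm_inl S hfix _ hβS).symm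
  have hBY : Commute B Y := (inr_comm_inl S hfix _ hβS).symm
  have hAB : Commute A B := (show Commute α β from hβc α hαS hαP).map SemidirectProduct.inl
  calc ⁅A * X, B * Y⁆ = A * (X * B) * Y * X⁻¹ * A⁻¹ * Y⁻¹ * B⁻¹ := by rw [commutatorElement_def]; group
    _ = A * B * (X * Y * X⁻¹ * Y⁻¹) * A⁻¹ * B⁻¹ := by
      rw [← hBX.eq, mul_assoc _ A⁻¹ Y⁻¹, hAY.inv_inv.eq]; group
    _ = (X * Y * X⁻¹ * Y⁻¹) * (A * B * A⁻¹ * B⁻¹) := by
      rw [show Commute (A * B) (X * Y * X⁻¹ * Y⁻¹) from
        (((hAX.mul_right hAY).mul_right hAX.inv_right).mul_right hAY.inv_right).mul_left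
          (((hBX.mul_right hBY).mul_right hBX.inv_right).mul_right hBY.inv_right)]
      group
    _ = ⁅X, Y⁆ := by rw [hAB.eq, commutatorElement_def]; group

/-- Automorphisms centralising `S` and normalising such a `2`-group centralise it. -/
theorem conj_eq_of_fix (hO : pPrimeCore 2 G = ⊥) (S : Sylow 2 G) {T : Subgroup (MulAut G)} (hT : IsPGroup 2 T)
    (hfix : ∀ t ∈ T, ∀ s ∈ (S : Subgroup G), t s = s) {d : MulAut G}
    (hd : d ∈ Subgroup.normalizer (T : Set (MulAut G))) (hdfix : ∀ s ∈ (S : Subgroup G), d s = s) :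
    ∀ t ∈ T, d * t * d⁻¹ = t := by
  haveI : Fact (Nat.Prime 2) := ⟨Nat.prime_two⟩
  have hcomm := comm_of_fix hO S hT hfix
  let δ : ↥T ≃* ↥T := T.normalizerMonoidHom ⟨d, hd⟩
  have hδ : ∀ t : ↥T, ((δ t : ↥T) : MulAut G) = d * t * d⁻¹ := fun t => rfl
  let D : Ext T ≃* Ext T := SemidirectProduct.congr d δ fun t => MulEquiv.ext fun g => by
    show d ((t : MulAut G) g) = (d * t * d⁻¹) (d g)
    simp
  have hDl : ∀ x : Ext T, (D x).left = d x.left := fun x => rfl
  have hDr : ∀ x : Ext T, (D x).right = δ x.right := fun x => rfl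
  intro t ht
  by_contra hne
  set U : Subgroup ↥T := Subgroup.closure {u | ∃ t : ↥T, u = δ t * t⁻¹} with hU
  haveI : U.Normal := ⟨fun n hn g => by rw [hcomm g n, mul_inv_cancel_right]; exact hn⟩
  refine false_of_controlled S hfix hO hT U (fun e => hne ?_) fun P hP h hN u hu _ => ⟨1, ?_⟩
  · have h1 : δ ⟨t, ht⟩ * (⟨t, ht⟩ : ↥T)⁻¹ ∈ U := Subgroup.subset_closure ⟨_, rfl⟩
    rw [e, Subgroup.mem_bot, mul_inv_eq_one] at h1
    exact (hδ ⟨t, ht⟩).symm.trans (congrArg Subtype.val h1)
  rw [one_mul, inv_one, mul_one]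
  suffices hle : U ≤ ((MulAut.conj h).toMonoidHom.comp SemidirectProduct.inr).eqLocus
      (SemidirectProduct.inr : ↥T →* Ext T) by
    have h1 : MulAut.conj h (SemidirectProduct.inr u) = SemidirectProduct.inr u := hle hu
    simpa using h1
  rw [hU, Subgroup.closure_le]
  rintro _ ⟨a, rfl⟩
  have hTP := inr_mem_of_either S hfix hT hP
  have hPS : P ≤ extSylow S hfix := by
    rcases hP with rfl | hP
    exacts [le_rfl, hP.1.1]
  have hfn : (sys S hfix).IsFullyNormalized P := by
    rcases hP with rfl | hP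
    exacts [isFullyNormalized_self, hP.2.1]
  -- `D` fixes `P`
  have hDP : ∀ x, D x ∈ P ↔ x ∈ P := by
    have key : ∀ x ∈ P, D x ∈ P := by
      intro x hx
      have e : D x = SemidirectProduct.inl x.left * SemidirectProduct.inr (δ x.right) := by
        rw [← SemidirectProduct.inl_left_mul_inr_right (D x), hDl, hDr, hdfix _ (hPS hx)]
      have hl : (SemidirectProduct.inl x.left : Ext T) ∈ P := by
        rw [show (SemidirectProduct.inl x.left : Ext T) = x * (SemidirectProduct.inr x.right)⁻¹ from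
          eq_mul_inv_of_mul_eq (SemidirectProduct.inl_left_mul_inr_right x)]
        exact P.mul_mem hx (P.inv_mem (hTP _))
      rw [e]
      exact P.mul_mem hl (hTP _)
    have hmap : P.map D.toMonoidHom = P := Subgroup.eq_of_le_of_card_ge
      (by rintro _ ⟨x, hx, rfl⟩; exact key x hx) (Subgroup.card_map_of_injective D.injective).ge
    intro x
    refine ⟨fun hx => ?_, key x⟩
    rw [← hmap] at hx
    obtain ⟨y, hy, e⟩ := hx
    exact D.injective e ▸ hy
  have hDN : D h ∈ Subgroup.normalizer (P : Set (Ext T)) := by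
    refine Subgroup.mem_normalizer_iff.mpr fun x => ?_
    rw [← D.apply_symm_apply x, hDP, ← map_inv, ← map_mul, ← map_mul, hDP]
    exact Subgroup.mem_normalizer_iff.mp hN _
  set w := h⁻¹ * D h with hw
  have hwN : w ∈ Subgroup.normalizer (P : Set (Ext T)) := Subgroup.mul_mem _ (Subgroup.inv_mem _ hN) hDN
  -- `w` centralises the kernel of the projection
  have hwker : ∀ x : P, (x : Ext T).right = 1 → w * x * w⁻¹ = x := by
    intro x hx
    have e : (x : Ext T) = SemidirectProduct.inl (x : Ext T).left := by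
      conv_lhs => rw [← SemidirectProduct.inl_left_mul_inr_right (x : Ext T), hx, map_one, mul_one]
    have hD1 : D (x : Ext T) = x := by
      refine SemidirectProduct.ext ?_ ?_
      · rw [hDl, hdfix _ (hPS x.2)]
      · rw [hDr, hx, map_one]
    have hc := (Subgroup.mem_normalizer_iff.mp hN _).mp x.2
    have hcr : (h * (x : Ext T) * h⁻¹).right = 1 := by simp [hx]
    have hD2 : D (h * x * h⁻¹) = h * x * h⁻¹ := by
      refine SemidirectProduct.ext ?_ ?_
      · rw [hDl, hdfix _ (hPS hc)]
      · rw [hDr, hcr, map_one]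
    rw [map_mul, map_mul, map_inv, hD1] at hD2
    rw [hw, show h⁻¹ * D h * (x : Ext T) * (h⁻¹ * D h)⁻¹ = h⁻¹ * (D h * x * (D h)⁻¹) * h by group, hD2]
    group
  -- `w` stabilises an invariant series, so acts as an element of `S × T`
  let A : Subgroup ((sys S hfix).autGroup P) :=
    { carrier := {b | (∀ x : P, (x : Ext T).right = 1 → (b : MulAut P) x = x) ∧
          ∀ x : P, (((b : MulAut P) x : P) : Ext T).right = (x : Ext T).right}
      one_mem' := ⟨fun x _ => rfl, fun x => rfl⟩
      mul_mem' := by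
        intro b b' hb hb'
        refine ⟨fun x hx => ?_, fun x => ?_⟩
        · rw [Subgroup.coe_mul, MulAut.mul_apply, hb'.1 x hx, hb.1 x hx]
        · rw [Subgroup.coe_mul, MulAut.mul_apply, hb.2, hb'.2]
      inv_mem' := by
        intro b hb
        refine ⟨fun x hx => ?_, fun x => ?_⟩
        · rw [InvMemClass.coe_inv]
          conv_lhs => rw [← hb.1 x hx]
          rw [MulAut.inv_apply_self]
        · rw [InvMemClass.coe_inv]
          conv_rhs => rw [← MulAut.apply_inv_self _ (b : MulAut P) x, hb.2] }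
  have hAp : IsPGroup 2 A := by
    let ρ : P →* ↥T := SemidirectProduct.rightHom.comp P.subtype
    refine IsPGroup.of_equiv ?_ (A.equivMapOfInjective _ ((sys S hfix).autGroup P).subtype_injective).symm
    refine isPGroup_of_stabilises ((isPGroup_extSylow S hfix hT).to_le hPS) (n := 2) ![⊥, ρ.ker, ⊤] rfl rfl _ ?_
    rintro _ ⟨b, hb, rfl⟩ i x hx
    fin_cases i
    · show x⁻¹ * (b : MulAut P) x ∈ (⊥ : Subgroup P)
      rw [Subgroup.mem_bot, hb.1 x hx, inv_mul_cancel]
    · show x⁻¹ * (b : MulAut P) x ∈ ρ.ker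
      rw [MonoidHom.mem_ker, map_mul, map_inv, inv_mul_eq_one]
      exact (hb.2 x).symm
  have hAn : A.Normal := by
    refine ⟨fun b hb c => ?_⟩
    have hcm : (c : MulAut P) ∈ autInducedBy ⊤ P := (autGroup_groupFusionSystem hPS).le c.2
    obtain ⟨g, -, -, hg⟩ := mem_autInducedBy_iff.mp hcm
    have hback : ∀ x : P, ((((c : MulAut P)⁻¹) x : P) : Ext T).right = g.right⁻¹ * (x : Ext T).right * g.right := by
      intro x
      have h1 := hg ((c : MulAut P)⁻¹ x)
      rw [MulAut.apply_inv_self] at h1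
      rw [h1]; simp [mul_assoc]
    refine ⟨fun x hx => ?_, fun x => ?_⟩
    · show (c : MulAut P) ((b : MulAut P) ((c : MulAut P)⁻¹ x)) = x
      rw [hb.1 _ (by rw [hback, hx]; group), MulAut.apply_inv_self]
    · show (((c : MulAut P) ((b : MulAut P) ((c : MulAut P)⁻¹ x)) : P) : Ext T).right = _
      rw [hg, SemidirectProduct.mul_right, SemidirectProduct.mul_right, SemidirectProduct.inv_right, hb.2, hback]
      group
  let β : MulAut P := P.normalizerMonoidHom ⟨w, hwN⟩
  have hβ : β ∈ (sys S hfix).autGroup P := by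
    rw [show (sys S hfix).autGroup P = _ from autGroup_groupFusionSystem hPS]
    exact mem_autInducedBy_iff.mpr ⟨w, trivial, hwN, fun _ => rfl⟩
  have hβA : (⟨β, hβ⟩ : (sys S hfix).autGroup P) ∈ A := by
    refine ⟨fun x hx => Subtype.ext (hwker x hx), fun x => ?_⟩
    show (w * (x : Ext T) * w⁻¹).right = _
    rw [SemidirectProduct.mul_right, SemidirectProduct.mul_right, SemidirectProduct.inv_right,
      hcomm w.right, mul_inv_cancel_right]
  obtain ⟨-, R, hR⟩ :=
    (saturated S hfix hT).isFullyAutomized_of_isFullyNormalized (isPGroup_extSylow S hfix hT) hfn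
  have hAR : A ≤ (R : Subgroup _) :=
    le_trans le_sup_left (R.3 (hAp.to_sup_of_normal_left R.2) le_sup_right).le
  have h2 : β ∈ autInducedBy (extSylow S hfix) P := hR.le (hAR hβA)
  obtain ⟨z, hz, -, hze⟩ := mem_autInducedBy_iff.mp h2
  have hwa : ∀ b : ↥T, w * SemidirectProduct.inr b * w⁻¹ = SemidirectProduct.inr b := fun b => by
    have h3 : w * SemidirectProduct.inr b * w⁻¹ = z * SemidirectProduct.inr b * z⁻¹ := hze ⟨_, hTP b⟩
    rw [h3, conj_inr S hfix hz, hcomm z.right b, mul_inv_cancel_right]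
  have hkey : D h * SemidirectProduct.inr (δ a) * (D h)⁻¹ = h * SemidirectProduct.inr (δ a) * h⁻¹ := by
    conv_rhs => rw [← hwa (δ a), hw]
    group
  obtain ⟨α, hαS, -, hα, -⟩ := image_inr S hfix hPS hTP hN a
  rw [hcomm h.right a, mul_inv_cancel_right] at hα
  have hDa : D (h * SemidirectProduct.inr a * h⁻¹) = D h * SemidirectProduct.inr (δ a) * (D h)⁻¹ := by
    rw [map_mul, map_mul, map_inv]
    congr 2
    exact SemidirectProduct.ext (map_one d) rfl
  rw [hα, hkey, map_mul, show D (SemidirectProduct.inl α) = SemidirectProduct.inl α from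
      SemidirectProduct.ext (hdfix α hαS) (map_one δ),
    show D (SemidirectProduct.inr a) = SemidirectProduct.inr (δ a) from
      SemidirectProduct.ext (map_one d) rfl] at hDa
  show MulAut.conj h (SemidirectProduct.inr (δ a * a⁻¹)) = SemidirectProduct.inr (δ a * a⁻¹)
  rw [map_mul, map_mul, map_inv, map_inv, MulAut.conj_apply, MulAut.conj_apply, ← hDa, hα, mul_inv_rev,
    ← map_inv, ← map_mul, ← mul_assoc, mul_assoc (SemidirectProduct.inl α : Ext T), ← map_mul,
    ← inr_comm_inl S hfix _ hαS, mul_inv_cancel_right]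

/-- A perfect group with a central Sylow `2`-subgroup has odd order. -/
theorem odd_of_perfect_of_central {H : Type*} [Group H] [Finite H] [Fact (Nat.Prime 2)] [Group.IsPerfect H]
    (T : Sylow 2 H) (hc : Subgroup.normalizer ((T : Subgroup H) : Set H) ≤ Subgroup.centralizer ((T : Subgroup H) : Set H)) :
    Odd (Nat.card H) := by
  have hker : (MonoidHom.transferSylow T hc).ker = ⊤ := by
    rw [eq_top_iff, ← Group.isPerfect_def.mp ‹Group.IsPerfect H›, commutator_def, Subgroup.commutator_le]
    intro a _ b _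
    rw [MonoidHom.mem_ker, map_commutatorElement, commutatorElement_eq_one_iff_mul_comm]
    exact Subtype.ext (hc (Subgroup.le_normalizer (MonoidHom.transferSylow T hc b).2) _
      (MonoidHom.transferSylow T hc a).2)
  have hbot : (T : Subgroup H) = ⊥ := by
    have h := MonoidHom.ker_transferSylow_isComplement' T hc
    rw [hker] at h
    exact Subgroup.isComplement'_top_left.mp h
  have h := T.not_dvd_index
  rw [hbot, Subgroup.index_bot] at h
  exact Nat.odd_iff.mpr (by omega)

/-- A perfect group of automorphisms centralising a Sylow `2`-subgroup and generated by `2`-elements is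
trivial. -/
theorem eq_bot_of_perfect (hO : pPrimeCore 2 G = ⊥) (S : Sylow 2 G) (L : Subgroup (MulAut G))
    (hfix : ∀ t ∈ L, ∀ s ∈ (S : Subgroup G), t s = s) (hperf : ⁅L, L⁆ = L)
    (hgen : L ≤ Subgroup.closure {x | x ∈ L ∧ ∃ k : ℕ, x ^ 2 ^ k = 1}) : L = ⊥ := by
  haveI : Fact (Nat.Prime 2) := ⟨Nat.prime_two⟩
  haveI : Finite (MulAut G) := Finite.of_injective (fun α : MulAut G => (α : G → G)) DFunLike.coe_injective
  haveI : Group.IsPerfect ↥L := Subgroup.isPerfect_iff.mpr hperf
  obtain ⟨T⟩ : Nonempty (Sylow 2 ↥L) := Sylow.nonempty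
  set T' := (T : Subgroup ↥L).map L.subtype with hT'
  have hT'L : T' ≤ L := Subgroup.map_subtype_le _
  have hc : Subgroup.normalizer ((T : Subgroup ↥L) : Set ↥L) ≤
      Subgroup.centralizer ((T : Subgroup ↥L) : Set ↥L) := by
    intro d hd x hx
    have hdN : (d : MulAut G) ∈ Subgroup.normalizer (T' : Set (MulAut G)) := by
      refine Subgroup.mem_normalizer_iff.mpr fun y => ⟨?_, ?_⟩
      · rintro ⟨z, hz, rfl⟩
        exact ⟨d * z * d⁻¹, (Subgroup.mem_normalizer_iff.mp hd z).mp hz, rfl⟩
      · rintro ⟨z, hz, e⟩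
        refine ⟨d⁻¹ * z * d, (Subgroup.mem_normalizer_iff''.mp hd z).mp hz, ?_⟩
        show ((d⁻¹ * z * d : ↥L) : MulAut G) = y
        push_cast
        rw [show (z : MulAut G) = (d : MulAut G) * y * (d : MulAut G)⁻¹ from e]
        group
    have h := conj_eq_of_fix hO S (T := T') (T.2.map _) (fun t ht => hfix t (hT'L ht)) hdN (hfix d d.2) x ⟨x, hx, rfl⟩
    refine Subtype.ext ?_
    push_cast
    calc (x : MulAut G) * d = ((d : MulAut G) * x * (d : MulAut G)⁻¹) * d := by rw [h]
      _ = d * x := by group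
  have hodd := odd_of_perfect_of_central T hc
  rw [eq_bot_iff]
  refine hgen.trans ((Subgroup.closure_le _).mpr ?_)
  rintro x ⟨hx, k, hk⟩
  have h1 : orderOf (⟨x, hx⟩ : ↥L) ∣ 2 ^ k := orderOf_dvd_of_pow_eq_one (Subtype.ext hk)
  have h2 : orderOf (⟨x, hx⟩ : ↥L) ∣ Nat.card L := orderOf_dvd_natCard _
  have h3 := Nat.eq_one_of_dvd_coprimes ((Nat.coprime_two_right.mpr hodd).pow_right k) h2 h1
  exact congrArg Subtype.val (orderOf_eq_one_iff.mp h3)

end CfsgLib.CentSylow
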