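import Cfsg.Agent.Lib.ZStar.QEight
import Cfsg.Agent.Lib.Isolated
import Cfsg.Agent.Lib.UniqueSubgroup
import Cfsg.Agent.Lib.BrauerSuzukiQ.Exceptional

/-! Glauberman's Z*-theorem. -/

set_option autoImplicit false
set_option maxHeartbeats 400000
set_option linter.unusedSectionVars false
set_option linter.style.haveILetI false

namespace CfsgLib.ZStar

open Cfsg CfsgLib.Blocks CfsgLib.CharTheory

universe u

variable {G : Type u} [Group G]

/-- The larger quaternion groups, by the exceptional characters. -/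
theorem order16_false [Fintype G] {u : G} (hu : orderOf u = 2) (hiso : IsIsolated u)
    (hgen : Subgroup.normalClosure ({u} : Set G) = ⊤) (S : Sylow 2 G) (k : ℕ)
    (e : (S : Subgroup G) ≃* QuaternionGroup (2 ^ (k + 2))) : False := by
  obtain ⟨χ₁, χ₂, h1, h2, -, hne, hdeg, hval⟩ := CfsgLib.QuaternionSylow.exists_exceptional S k e
  have hG0 : (Nat.card G : ℂ) ≠ 0 := Nat.cast_ne_zero.2 Nat.card_pos.ne'
  have hodd : ∀ g : G, ¬ 4 ∣ orderOf (g * u * g⁻¹ * u) := by
    intro g
    have h := odd_orderOf_mul_conj (u := g * u * g⁻¹) (by rw [orderOf_conj, hu])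
      (isolated_conj hiso g) g⁻¹
    rw [show g⁻¹ * (g * u * g⁻¹) * g⁻¹⁻¹ = u by group] at h
    exact fun h4 => (Nat.two_dvd_ne_zero.2 (Nat.odd_iff.1 h)) ((by norm_num : 2 ∣ 4).trans h4)
  have hu1 := hval u (by rw [hu]; norm_num)
  have hsum := congrArg₂ (· - ·) (sum_conj_shift (⟨χ₁, h1⟩ : IrrCharacter G) u u)
    (sum_conj_shift (⟨χ₂, h2⟩ : IrrCharacter G) u u)
  simp only [← Finset.sum_sub_distrib] at hsum
  rw [Finset.sum_congr rfl fun g _ => hval _ (hodd g), Finset.sum_const, Finset.card_univ,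
    nsmul_eq_mul, mul_one, ← Nat.card_eq_fintype_card] at hsum
  have hd2 := irr_one_ne_zero (⟨χ₂, h2⟩ : IrrCharacter G)
  have hd1 := irr_one_ne_zero (⟨χ₁, h1⟩ : IrrCharacter G)
  simp only at hd1 hd2
  rw [show χ₁ u = χ₂ u + 1 by linear_combination hu1, hdeg] at hsum
  rw [hdeg] at hd1
  have key : (χ₂ u - χ₂ 1) ^ 2 = 0 := by
    field_simp at hsum
    linear_combination hsum
  refine hne (eq_one_of_apply_eq (⟨χ₂, h2⟩ : IrrCharacter G) ?_ hgen)
  exact sub_eq_zero.1 (pow_eq_zero_iff two_ne_zero |>.1 key)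

theorem map_pPrimeCore_le_of_normal [Finite G] (N : Subgroup G) [N.Normal] :
    (pPrimeCore 2 N).map N.subtype ≤ pPrimeCore 2 G :=
  CfsgLib.le_pPrimeCore (by
    rw [Subgroup.card_map_of_injective N.subtype_injective]
    exact CfsgLib.card_pPrimeCore_coprime 2)

/-- With trivial odd core and trivial centre there is no isolated involution generating the group
normally. -/
theorem minimal_false [Fintype G] {u : G} (hu : orderOf u = 2) (hiso : IsIsolated u)
    (hgen : Subgroup.normalClosure ({u} : Set G) = ⊤) (hO : pPrimeCore 2 G = ⊥)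
    (hZ : Subgroup.center G = ⊥)
    (hloc : ∀ z : G, orderOf z = 2 → ∀ w : G, IsConj u w → Commute w z →
      ∀ c : G, Commute c z → w * c * w⁻¹ * c⁻¹ ∈ centralizerPPrimeCore 2 z) : False := by
  haveI : Fact (Nat.Prime 2) := ⟨Nat.prime_two⟩
  have hu1 : u ≠ 1 := fun e => by rw [e, orderOf_one] at hu; norm_num at hu
  have hnc : ¬ HasNormalPComplement 2 G := by
    intro h
    have h1 := CfsgLib.isPGroup_quotient_of_hasNormalPComplement h
    have hG2 : IsPGroup 2 G := by
      intro g
      obtain ⟨j, hj⟩ := h1 (g : G ⧸ pPrimeCore 2 G)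
      refine ⟨j, ?_⟩
      rw [← QuotientGroup.mk_pow, QuotientGroup.eq_one_iff] at hj
      rwa [hO, Subgroup.mem_bot] at hj
    haveI : Nontrivial G := ⟨⟨u, 1, hu1⟩⟩
    exact (hG2.bot_lt_center).ne hZ.symm
  have hall := all_involutions_conj u hu hiso hgen fun z hz _ w hw hwz c hc =>
    hloc z hz w hw hwz c hc
  have hQ : IsPGroup 2 (Subgroup.zpowers u) :=
    IsPGroup.of_card (n := 1) (by rw [Nat.card_zpowers, hu, pow_one])
  obtain ⟨P, hP⟩ := hQ.exists_le_sylow
  have huP : u ∈ (P : Subgroup G) := hP (Subgroup.mem_zpowers u)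
  have hun : ∀ x ∈ (P : Subgroup G), x * x = 1 → x = 1 ∨ x = u := by
    intro x hx hxx
    by_cases hx1 : x = 1
    · exact Or.inl hx1
    obtain ⟨g, hg⟩ := isConj_iff.1 (hall x (orderOf_eq_prime (by rw [pow_two, hxx]) hx1))
    right
    rw [← hg]
    exact CfsgLib.Local.isolated_unique P.2 huP hiso (by rw [hg]; exact hx)
  have hzP : orderOf (⟨u, huP⟩ : (P : Subgroup G)) = 2 := by rw [Subgroup.orderOf_mk, hu]
  have huniq : ∀ x : (P : Subgroup G), x ^ 2 = 1 → x ∈ Subgroup.zpowers (⟨u, huP⟩ : (P : Subgroup G)) := by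
    intro x hx
    rcases hun x x.2 (by rw [← pow_two]; exact congrArg Subtype.val hx) with e | e
    · rw [show x = 1 from Subtype.ext e]; exact one_mem _
    · rw [show x = ⟨u, huP⟩ from Subtype.ext e]; exact Subgroup.mem_zpowers _
  have heven : 2 ∣ Nat.card G := hu ▸ orderOf_dvd_natCard u
  have hcyc : ¬ IsCyclic (P : Subgroup G) := fun hP' =>
    hnc (CfsgLib.hasNormalPComplement_of_normalizer_le_centralizer P
      (IsCyclic.normalizer_le_centralizer ((Nat.minFac_eq_two_iff _).2 heven) hP'))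
  rcases CfsgLib.UniqueSubgroup.cyclic_or_quaternion P.2 hzP huniq with h | ⟨-, n, hn, ⟨e⟩⟩
  · exact hcyc h
  rcases Nat.lt_or_ge n 2 with hlt | hge
  · obtain rfl : n = 1 := by omega
    refine order8_false hu hiso hgen P huP ?_ hun hcyc hnc
    rw [Nat.card_congr e.toEquiv, Nat.card_eq_fintype_card, QuaternionGroup.card]
    norm_num
  · obtain ⟨k, rfl⟩ : ∃ k, n = k + 2 := ⟨n - 2, by omega⟩
    exact order16_false hu hiso hgen P k e

/-- An element central modulo a central subgroup of order two. -/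
theorem eq_one_of_mem_comap [Finite G] (hO : pPrimeCore 2 G = ⊥) (Z : Subgroup G) [Z.Normal]
    (hZ : Z ≤ Subgroup.center G) (hZ2 : IsPGroup 2 Z) {w : G} (hw : Odd (orderOf w))
    (hmem : (w : G ⧸ Z) ∈ pPrimeCore 2 (G ⧸ Z)) : w = 1 := by
  haveI : Fact (Nat.Prime 2) := ⟨Nat.prime_two⟩
  set K := (pPrimeCore 2 (G ⧸ Z)).comap (QuotientGroup.mk' Z) with hK
  have hKc : HasNormalPComplement 2 K := by
    obtain ⟨S⟩ := (inferInstance : Nonempty (Sylow 2 K))
    refine CfsgLib.hasNormalPComplement_of_normalizer_le_centralizer S fun c _ s hs => ?_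
    obtain ⟨j, hj⟩ := IsPGroup.iff_orderOf.1 S.2 (⟨s, hs⟩ : (S : Subgroup K))
    have h1 : ((s : G) : G ⧸ Z) = 1 := by
      have hs' : ((s : G) : G ⧸ Z) ∈ pPrimeCore 2 (G ⧸ Z) := s.2
      rw [← orderOf_eq_one_iff]
      refine Nat.eq_one_of_dvd_coprimes (a := 2 ^ j) ?_ ?_ (Subgroup.orderOf_dvd_natCard _ hs')
      · exact ((CfsgLib.card_pPrimeCore_coprime 2).symm).pow_left j
      · rw [← hj, Subgroup.orderOf_mk, ← Subgroup.orderOf_coe]
        exact orderOf_map_dvd (QuotientGroup.mk' Z) (s : G)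
    exact Subtype.ext ((Subgroup.mem_center_iff.1 (hZ ((QuotientGroup.eq_one_iff _).1 h1)) c).symm)
  have hmem' : (⟨w, Subgroup.mem_comap.2 hmem⟩ : K) ∈ pPrimeCore 2 K :=
    CfsgLib.mem_pPrimeCore_of_hasNormalPComplement hKc
      (by rw [Subgroup.orderOf_mk]; exact Nat.coprime_two_right.2 hw)
  haveI : K.Normal := Subgroup.Normal.comap inferInstance _
  have := map_pPrimeCore_le_of_normal K ⟨_, hmem', rfl⟩
  rwa [hO, Subgroup.mem_bot] at this

theorem main_aux : ∀ (n : ℕ) (G : Type u) [Group G] [Finite G], Nat.card G = n → ∀ u : G,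
    orderOf u = 2 → IsIsolated u → ∀ g : G, u * g * u⁻¹ * g⁻¹ ∈ pPrimeCore 2 G := by
  intro n
  induction n using Nat.strong_induction_on with
  | _ n ih =>
    intro G _ _ hn u hu hiso g
    haveI : Fact (Nat.Prime 2) := ⟨Nat.prime_two⟩
    haveI := Fintype.ofFinite G
    have hu1 : u ≠ 1 := fun e => by rw [e, orderOf_one] at hu; norm_num at hu
    have hquot : ∀ (Z : Subgroup G) [Z.Normal], Z ≠ ⊥ → u ∉ Z → ∀ g : G,
        ((u * g * u⁻¹ * g⁻¹ : G) : G ⧸ Z) ∈ pPrimeCore 2 (G ⧸ Z) := by
      intro Z _ hZ huZ g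
      have hlt : Nat.card (G ⧸ Z) < n := by
        rw [← hn, ← Subgroup.index_eq_card, ← Z.index_mul_card]
        exact lt_mul_of_one_lt_right (Nat.pos_of_ne_zero Z.index_ne_zero_of_finite)
          (Subgroup.one_lt_card_iff_ne_bot Z |>.2 hZ)
      exact ih _ hlt (G ⧸ Z) rfl _ (orderOf_mk_eq_two hu huZ) (isolated_quotient hu hiso Z) g
    by_cases hO : pPrimeCore 2 G = ⊥
    swap
    · have h := hquot _ hO (fun h => by
        have h2 := Subgroup.orderOf_dvd_natCard _ h
        rw [hu] at h2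
        exact absurd (Nat.eq_one_of_dvd_coprimes (CfsgLib.card_pPrimeCore_coprime 2) h2 dvd_rfl) (by norm_num)) g
      rwa [CfsgLib.pPrimeCore_quotient_eq_bot, Subgroup.mem_bot, QuotientGroup.eq_one_iff] at h
    suffices hcen : Commute g u by
      rw [← hcen.eq, mul_inv_cancel_right, mul_inv_cancel]
      exact one_mem _
    by_contra hg
    -- the normal closure
    have hgen : Subgroup.normalClosure ({u} : Set G) = ⊤ := by
      by_contra hne
      set N := Subgroup.normalClosure ({u} : Set G)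
      have huN : u ∈ N := Subgroup.subset_normalClosure rfl
      have hlt : Nat.card N < n := by
        rw [← hn]
        exact lt_of_le_of_ne (Subgroup.card_le_card_group N) fun h =>
          hne (Subgroup.eq_top_of_card_eq N h)
      have hin := ih _ hlt N rfl ⟨u, huN⟩ (by rw [Subgroup.orderOf_mk, hu]) (isolated_subgroup hiso huN)
      refine hg (mul_inv_eq_iff_eq_mul.1 (hiso g ?_))
      have hc : g * u * g⁻¹ ∈ N := Subgroup.normalClosure_normal.conj_mem u huN g
      have h1 := map_pPrimeCore_le_of_normal N ⟨_, hin ⟨_, hc⟩, rfl⟩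
      rw [hO, Subgroup.mem_bot] at h1
      exact mul_inv_eq_iff_eq_mul.1 (mul_inv_eq_one.1 h1)
    by_cases hZ : Subgroup.center G = ⊥
    · refine minimal_false hu hiso hgen hO hZ fun z hz w hw hwz c hc => ?_
      obtain ⟨k, rfl⟩ := isConj_iff.1 hw
      set C := Subgroup.centralizer ({z} : Set G)
      have hzC : C ≠ ⊤ := by
        intro h
        have : z ∈ Subgroup.center G := Subgroup.mem_center_iff.2 fun y =>
          Subgroup.mem_centralizer_singleton_iff.1 (show y ∈ C by rw [h]; exact Subgroup.mem_top y)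
        rw [hZ, Subgroup.mem_bot] at this
        rw [this, orderOf_one] at hz
        norm_num at hz
      have hlt : Nat.card C < n := by
        rw [← hn]
        exact lt_of_le_of_ne (Subgroup.card_le_card_group C) fun h =>
          hzC (Subgroup.eq_top_of_card_eq C h)
      have hwC : k * u * k⁻¹ ∈ C := Subgroup.mem_centralizer_singleton_iff.2 hwz
      exact ⟨_, ih _ hlt C rfl ⟨_, hwC⟩ (by rw [Subgroup.orderOf_mk, orderOf_conj, hu])
        (isolated_subgroup (isolated_conj hiso k) hwC)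
        ⟨c, Subgroup.mem_centralizer_singleton_iff.2 hc⟩, rfl⟩
    · -- a central involution
      obtain ⟨z, hzc, hz⟩ : ∃ z ∈ Subgroup.center G, orderOf z = 2 := by
        obtain ⟨q, hq, hqd⟩ := Nat.exists_prime_and_dvd
          (Subgroup.one_lt_card_iff_ne_bot (Subgroup.center G) |>.2 hZ).ne'
        haveI : Fact q.Prime := ⟨hq⟩
        obtain ⟨c, hc⟩ := exists_prime_orderOf_dvd_card' q hqd
        refine ⟨c, c.2, ?_⟩
        rw [Subgroup.orderOf_coe, hc]
        by_contra hq2
        haveI hn' : (Subgroup.zpowers (c : G)).Normal := ⟨fun x hx y => by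
          obtain ⟨i, rfl⟩ := Subgroup.mem_zpowers_iff.1 hx
          rw [Subgroup.mem_center_iff.1 (zpow_mem c.2 i) y, mul_inv_cancel_right]
          exact zpow_mem (Subgroup.mem_zpowers _) i⟩
        have h1 := CfsgLib.le_pPrimeCore (p := 2) (N := Subgroup.zpowers (c : G))
          (by rw [Nat.card_zpowers, Subgroup.orderOf_coe, hc]; exact (Nat.coprime_primes hq Nat.prime_two).2 hq2)
          (Subgroup.mem_zpowers (c : G))
        rw [hO, Subgroup.mem_bot] at h1
        rw [← Subgroup.orderOf_coe, h1, orderOf_one] at hc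
        exact hq.ne_one hc.symm
      by_cases hzu : z = u
      · exact hg (Subgroup.mem_center_iff.1 (hzu ▸ hzc) g)
      set Z := Subgroup.zpowers z
      have hZc : Z ≤ Subgroup.center G := Subgroup.zpowers_le.2 hzc
      haveI : Z.Normal := ⟨fun x hx y => by
        rw [Subgroup.mem_center_iff.1 (hZc hx) y, mul_inv_cancel_right]
        exact hx⟩
      have hz1 : Z ≠ ⊥ := fun h => by
        rw [Subgroup.zpowers_eq_bot.1 h, orderOf_one] at hz; norm_num at hz
      have huZ : u ∉ Z := fun h => by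
        obtain ⟨i, hi⟩ := Subgroup.mem_zpowers_iff.1 h
        rw [← zpow_mod_orderOf, hz] at hi
        rcases Int.emod_two_eq_zero_or_one i with e | e <;> rw [Nat.cast_ofNat, e] at hi
        · exact hu1 (by simpa using hi.symm)
        · exact hzu (by simpa using hi)
      have hw := eq_one_of_mem_comap hO Z hZc
        (IsPGroup.of_card (n := 1) (by rw [Nat.card_zpowers, hz, pow_one]))
        (w := u * g * u⁻¹ * g⁻¹) ?_ (hquot Z hz1 huZ g)
      · exact hg (mul_inv_eq_iff_eq_mul.1 (mul_inv_eq_one.1 hw)).symm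
      · have h := odd_orderOf_mul_conj hu hiso g
        rwa [show u * g * u⁻¹ * g⁻¹ = u * (g * u * g⁻¹) by
          rw [inv_eq_self hu]; group]

/-- **Glauberman's Z*-theorem** for isolated involutions. -/
theorem inZStar [Finite G] {u : G} (hu : orderOf u = 2) (hiso : IsIsolated u) : InZStar 2 u := by
  intro g
  have h := (pPrimeCore 2 G).inv_mem (main_aux _ G rfl u hu hiso g)
  rwa [show (u * g * u⁻¹ * g⁻¹)⁻¹ = g * u * g⁻¹ * u⁻¹ by group] at h

theorem commutator_mem [Finite G] {u : G} (hu : orderOf u = 2) (hiso : IsIsolated u) (g : G) :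
    u * g * u⁻¹ * g⁻¹ ∈ pPrimeCore 2 G :=
  main_aux _ G rfl u hu hiso g

end CfsgLib.ZStar
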