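import Mathlib.GroupTheory.Sylow
import Mathlib.Tactic.Group
import Cfsg.Prelude.Def_IsolatedElements
import Cfsg.Agent.Lib.Basic
import Cfsg.Agent.Lib.PSolvable

/-! Isolated involutions. -/

set_option autoImplicit false
set_option maxHeartbeats 400000

namespace CfsgLib.ZStar

open Cfsg

universe u

variable {G : Type u} [Group G]

theorem sq_eq_one {u : G} (hu : orderOf u = 2) : u * u = 1 := by
  rw [← pow_two, ← hu, pow_orderOf_eq_one]

theorem inv_eq_self {u : G} (hu : orderOf u = 2) : u⁻¹ = u :=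
  inv_eq_of_mul_eq_one_right (sq_eq_one hu)

theorem orderOf_conj (g u : G) : orderOf (g * u * g⁻¹) = orderOf u :=
  MulEquiv.orderOf_eq (MulAut.conj g) u

/-- An involution inverts its product with another involution. -/
theorem conj_pow_mul {u v : G} (hu : orderOf u = 2) (hv : orderOf v = 2) (m : ℕ) :
    u * (u * v) ^ m * u⁻¹ = ((u * v) ^ m)⁻¹ := by
  have h1 : u * (u * v) * u⁻¹ = (u * v)⁻¹ := by
    rw [mul_inv_rev, inv_eq_self hu, inv_eq_self hv, ← mul_assoc u u v, sq_eq_one hu, one_mul]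
  have h2 := (map_pow (MulAut.conj u) (u * v) m)
  simp only [MulAut.conj_apply] at h2
  rw [h2, h1, inv_pow]

theorem isolated_conj {u : G} (h : IsIsolated u) (k : G) : IsIsolated (k * u * k⁻¹) := by
  intro g hg
  have h1 := hg.map (MulAut.conj k⁻¹).toMonoidHom
  simp only [MulEquiv.coe_toMonoidHom, MulAut.conj_apply] at h1
  rw [show k⁻¹ * (k * u * k⁻¹) * k⁻¹⁻¹ = u by group,
    show k⁻¹ * (g * (k * u * k⁻¹) * g⁻¹) * k⁻¹⁻¹ = k⁻¹ * g * k * u * (k⁻¹ * g * k)⁻¹ by group] at h1
  have h2 := h _ h1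
  calc g * (k * u * k⁻¹) * g⁻¹ = k * (k⁻¹ * g * k * u * (k⁻¹ * g * k)⁻¹) * k⁻¹ := by group
    _ = k * u * k⁻¹ := by rw [h2]

/-- The product of an isolated involution with any of its conjugates has odd order. -/
theorem odd_orderOf_mul_conj [Finite G] {u : G} (hu : orderOf u = 2) (hiso : IsIsolated u) (g : G) :
    Odd (orderOf (u * (g * u * g⁻¹))) := by
  set v := g * u * g⁻¹ with hvdef
  have hv : orderOf v = 2 := by rw [hvdef, orderOf_conj, hu]
  set x := u * v with hx
  rcases Nat.even_or_odd (orderOf x) with ⟨k, hk⟩ | ho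
  swap; · exact ho
  exfalso
  have hk0 : 0 < k := by have := orderOf_pos x; omega
  set z := x ^ k with hz
  have hzz : z⁻¹ = z := inv_eq_of_mul_eq_one_right (by rw [← pow_add, ← hk, pow_orderOf_eq_one])
  have hzne : z ≠ 1 := pow_ne_one_of_lt_orderOf hk0.ne' (by omega)
  have hcom : Commute u (u * z) := by
    refine (Commute.refl u).mul_right ?_
    show u * z = z * u
    rw [← mul_inv_eq_iff_eq_mul, conj_pow_mul hu hv k, hzz]
  have hsh : ∀ i : ℕ, (x ^ i)⁻¹ * u * x ^ i = u * x ^ (2 * i) := fun i => by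
    have h := conj_pow_mul hu hv i
    rw [← hx] at h
    rw [← h, inv_eq_self hu, two_mul, pow_add]
    calc u * x ^ i * u * u * x ^ i = u * x ^ i * (u * u) * x ^ i := by group
      _ = u * (x ^ i * x ^ i) := by rw [sq_eq_one hu, mul_one, mul_assoc]
  obtain ⟨h, hh⟩ : ∃ h : G, h * u * h⁻¹ = u * z := by
    rcases Nat.even_or_odd k with ⟨i, hi⟩ | ⟨i, hi⟩
    · refine ⟨(x ^ i)⁻¹, ?_⟩
      rw [inv_inv, hsh, hz, hi, two_mul]
    · refine ⟨(x ^ i)⁻¹ * g, ?_⟩
      have hux : g * u * g⁻¹ = u * x := by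
        rw [hx, ← mul_assoc, sq_eq_one hu, one_mul]
      calc (x ^ i)⁻¹ * g * u * ((x ^ i)⁻¹ * g)⁻¹ = (x ^ i)⁻¹ * (g * u * g⁻¹) * x ^ i := by group
        _ = (x ^ i)⁻¹ * u * x ^ i * x := by
          rw [hux, mul_assoc ((x ^ i)⁻¹ * u) (x ^ i) x, ((Commute.refl x).pow_left i).eq]
          simp only [mul_assoc]
        _ = u * z := by rw [hsh, mul_assoc, ← pow_succ, hz, hi]
  have h1 := hiso h (by rw [hh]; exact hcom)
  rw [hh] at h1
  exact hzne (mul_eq_left.1 h1)

theorem isolated_subgroup {u : G} (h : IsIsolated u) {H : Subgroup G} (hu : u ∈ H) :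
    IsIsolated (⟨u, hu⟩ : H) :=
  fun g hg => Subtype.ext (h g (congrArg Subtype.val hg))

theorem isolated_quotient [Finite G] {u : G} (hu : orderOf u = 2) (h : IsIsolated u)
    (N : Subgroup G) [N.Normal] : IsIsolated (u : G ⧸ N) := by
  intro q hq
  induction q using QuotientGroup.induction_on with
  | H g =>
    rw [← QuotientGroup.mk_inv, ← QuotientGroup.mk_mul, ← QuotientGroup.mk_mul] at hq ⊢
    obtain ⟨j, hj⟩ := odd_orderOf_mul_conj hu h g
    have hu2 : (u : G ⧸ N) * u = 1 := by rw [← QuotientGroup.mk_mul, sq_eq_one hu]; rfl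
    have hv2 : ((g * u * g⁻¹ : G) : G ⧸ N) * ((g * u * g⁻¹ : G) : G ⧸ N) = 1 := by
      rw [← QuotientGroup.mk_mul, sq_eq_one (by rw [orderOf_conj, hu])]; rfl
    set a : G ⧸ N := (u : G ⧸ N)
    set b : G ⧸ N := ((g * u * g⁻¹ : G) : G ⧸ N)
    have h2 : (a * b) ^ 2 = 1 := by
      rw [pow_two]
      calc a * b * (a * b) = a * (b * a) * b := by group
        _ = a * (a * b) * b := by rw [hq.eq]
        _ = 1 := by rw [← mul_assoc, hu2, one_mul, hv2]
    have h3 : (a * b) ^ (2 * j + 1) = 1 := by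
      rw [← hj]
      exact (QuotientGroup.mk_pow N _ _).symm.trans (by rw [pow_orderOf_eq_one]; rfl)
    rw [pow_succ, pow_mul, h2, one_pow, one_mul] at h3
    calc b = a * a * b := by rw [hu2, one_mul]
      _ = a := by rw [mul_assoc, h3, mul_one]

theorem orderOf_mk_eq_two [Finite G] {u : G} (hu : orderOf u = 2) {N : Subgroup G} [N.Normal]
    (hN : u ∉ N) : orderOf (u : G ⧸ N) = 2 := by
  refine orderOf_eq_prime ?_ ((QuotientGroup.eq_one_iff u).not.2 hN)
  rw [← QuotientGroup.mk_pow, ← hu, pow_orderOf_eq_one]; rfl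

theorem isolated_of_sylow [Finite G] (P : Sylow 2 G) {u : G} (hu : orderOf u = 2) (huP : u ∈ P)
    (hiso : ∀ g : G, g * u * g⁻¹ ∈ P → g * u * g⁻¹ = u) : IsIsolated u := by
  intro g hg
  set v := g * u * g⁻¹ with hvdef
  have hv : orderOf v = 2 := by rw [hvdef, orderOf_conj, hu]
  have hQ : IsPGroup 2 (Subgroup.closure ({u, v} : Set G)) := by
    have : IsMulCommutative (Subgroup.closure ({u, v} : Set G)) :=
      Subgroup.isMulCommutative_closure (by
        rintro a (rfl | rfl) b (rfl | rfl)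
        · rfl
        · exact hg
        · exact hg.symm
        · rfl)
    intro y
    refine ⟨1, Subtype.ext ?_⟩
    have key : ∀ w ∈ Subgroup.closure ({u, v} : Set G), w ^ (2 ^ 1) = 1 := by
      intro w hw
      induction hw using Subgroup.closure_induction with
      | mem w hw =>
        rcases hw with rfl | rfl
        · rw [pow_one, ← hu, pow_orderOf_eq_one]
        · rw [pow_one, ← hv, pow_orderOf_eq_one]
      | one => exact one_pow _
      | mul a b ha hb iha ihb =>
        rw [(show Commute a b from congrArg Subtype.val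
          (mul_comm' (⟨a, ha⟩ : Subgroup.closure ({u, v} : Set G)) ⟨b, hb⟩)).mul_pow, iha, ihb,
          one_mul]
      | inv a _ ih => rw [inv_pow, ih, inv_one]
    exact key y y.2
  obtain ⟨T, hT⟩ := hQ.exists_le_sylow
  obtain ⟨k, hk⟩ := MulAction.exists_smul_eq G T P
  have hmem : ∀ w ∈ T, k * w * k⁻¹ ∈ P := fun w hw => by
    rw [← hk]; exact Subgroup.smul_mem_pointwise_smul w (MulAut.conj k) _ hw
  have h1 := hiso k (hmem u (hT (Subgroup.subset_closure (Or.inl rfl))))
  have h2 := hmem v (hT (Subgroup.subset_closure (Or.inr rfl)))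
  rw [hvdef, show k * (g * u * g⁻¹) * k⁻¹ = k * g * u * (k * g)⁻¹ by group] at h2
  have h3 := hiso (k * g) h2
  calc g * u * g⁻¹ = k⁻¹ * (k * g * u * (k * g)⁻¹) * k := by group
    _ = k⁻¹ * (k * u * k⁻¹) * k := by rw [h3, h1]
    _ = u := by group

end CfsgLib.ZStar
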