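import Cfsg.Agent.Lib.ZStar.Main
import Cfsg.Prelude.Def_FusionSystem

/-!
# The centre of a 2-fusion system of a group
-/

namespace CfsgLib.ZStar

open Cfsg

set_option linter.unusedVariables false
set_option maxHeartbeats 400000

universe u

theorem weaklyClosed_quotient {G : Type u} [Group G] [Finite G] (S : Sylow 2 G) {z : G} (hz : z ∈ S)
    (h : ∀ (i : ℕ) (g : G), g * z ^ i * g⁻¹ ∈ S → g * z ^ i * g⁻¹ = z ^ i) (N : Subgroup G)
    [N.Normal] (i : ℕ) (k : G ⧸ N)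
    (hk : k * (z : G ⧸ N) ^ i * k⁻¹ ∈ (S : Subgroup G).map (QuotientGroup.mk' N)) :
    k * (z : G ⧸ N) ^ i * k⁻¹ = (z : G ⧸ N) ^ i := by
  haveI : Fact (Nat.Prime 2) := ⟨Nat.prime_two⟩
  obtain ⟨g, rfl⟩ := QuotientGroup.mk_surjective k
  -- `g z^i g⁻¹` lies in `S ⊔ N`, so some `N`-conjugate of it lies in `S`
  have hmem : g * z ^ i * g⁻¹ ∈ (S : Subgroup G) ⊔ N := by
    have h2 : g * z ^ i * g⁻¹ ∈
        ((S : Subgroup G).map (QuotientGroup.mk' N)).comap (QuotientGroup.mk' N) := hk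
    rwa [Subgroup.comap_map_eq, QuotientGroup.ker_mk'] at h2
  have hpg : IsPGroup 2 (Subgroup.zpowers (g * z ^ i * g⁻¹)) := by
    have h1 : IsPGroup 2 ((S : Subgroup G).map (MulAut.conj g).toMonoidHom) := S.2.map _
    refine h1.to_le (Subgroup.zpowers_le.2 ⟨z ^ i, (S : Subgroup G).pow_mem hz i, rfl⟩)
  set H : Subgroup G := (S : Subgroup G) ⊔ N
  let T : Sylow 2 H := S.subtype le_sup_left
  obtain ⟨R, hR⟩ := (hpg.comap_of_injective H.subtype H.subtype_injective).exists_le_sylow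
  obtain ⟨c, hc⟩ := MulAction.exists_smul_eq H R T
  have hcR : (c : G) * (g * z ^ i * g⁻¹) * (c : G)⁻¹ ∈ S := by
    have h1 : (⟨_, hmem⟩ : H) ∈ (R : Subgroup H) := hR (Subgroup.mem_zpowers _)
    have h2 : c * ⟨_, hmem⟩ * c⁻¹ ∈ ((c • R : Sylow 2 H) : Subgroup H) := by
      rw [Sylow.smul_def]
      exact Subgroup.smul_mem_pointwise_smul _ (MulAut.conj c) _ h1
    rw [hc] at h2
    exact h2
  obtain ⟨s, hs, n, hn, hsn⟩ := Subgroup.mem_sup_of_normal_right.1 c.2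
  have h3 := h i ((c : G) * g) (by
    rw [show (c : G) * g * z ^ i * ((c : G) * g)⁻¹ = (c : G) * (g * z ^ i * g⁻¹) * (c : G)⁻¹ by group]
    exact hcR)
  have hSc : s * z ^ i * s⁻¹ = z ^ i := h i s ((S : Subgroup G).mul_mem
    ((S : Subgroup G).mul_mem hs ((S : Subgroup G).pow_mem hz i)) ((S : Subgroup G).inv_mem hs))
  rw [← QuotientGroup.mk_pow]
  have h4 : ((c : G) : G ⧸ N) = (s : G ⧸ N) := by
    rw [← hsn, QuotientGroup.mk_mul, (QuotientGroup.eq_one_iff n).2 hn, mul_one]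
  have h5 := congrArg (fun x : G => (x : G ⧸ N)) h3
  have h6 := congrArg (fun x : G => (x : G ⧸ N)) hSc
  simp only [QuotientGroup.mk_mul, QuotientGroup.mk_inv, h4] at h5 h6
  calc (g : G ⧸ N) * ((z ^ i : G) : G ⧸ N) * (g : G ⧸ N)⁻¹
      = (s : G ⧸ N)⁻¹ * ((s : G ⧸ N) * (g : G ⧸ N) * ((z ^ i : G) : G ⧸ N) *
          ((s : G ⧸ N) * (g : G ⧸ N))⁻¹) * (s : G ⧸ N) := by group
    _ = (s : G ⧸ N)⁻¹ * ((z ^ i : G) : G ⧸ N) * (s : G ⧸ N) := by rw [h5]
    _ = (s : G ⧸ N)⁻¹ * ((s : G ⧸ N) * ((z ^ i : G) : G ⧸ N) * (s : G ⧸ N)⁻¹) * (s : G ⧸ N) := by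
        rw [h6]
    _ = ((z ^ i : G) : G ⧸ N) := by group

/-- **Z*-theorem for 2-elements**: a 2-element all of whose powers are weakly closed in a Sylow
2-subgroup is central modulo the odd core. -/
theorem inZStar_of_powers : ∀ (n : ℕ) (G : Type u) [Group G] [Finite G], Nat.card G = n →
    ∀ (S : Sylow 2 G) (z : G), z ∈ S →
      (∀ (i : ℕ) (g : G), g * z ^ i * g⁻¹ ∈ S → g * z ^ i * g⁻¹ = z ^ i) → InZStar 2 z := by
  intro n
  induction n using Nat.strong_induction_on with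
  | _ n ih =>
  intro G _ _ hn S z hz h g
  haveI : Fact (Nat.Prime 2) := ⟨Nat.prime_two⟩
  by_cases hz1 : z = 1
  · subst hz1; simp
  have hquot : ∀ (N : Subgroup G) [N.Normal], N ≠ ⊥ →
      ((g * z * g⁻¹ * z⁻¹ : G) : G ⧸ N) ∈ pPrimeCore 2 (G ⧸ N) := by
    intro N _ hN
    have hlt : Nat.card (G ⧸ N) < n := by
      rw [← hn, ← Subgroup.index_eq_card, ← N.index_mul_card]
      exact lt_mul_of_one_lt_right (Nat.pos_of_ne_zero N.index_ne_zero_of_finite)
        (Subgroup.one_lt_card_iff_ne_bot N |>.2 hN)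
    exact ih _ hlt (G ⧸ N) rfl (S.mapSurjective (QuotientGroup.mk'_surjective N)) (z : G ⧸ N)
      ⟨z, hz, rfl⟩ (fun i k hk => weaklyClosed_quotient S hz h N i k hk) (g : G ⧸ N)
  by_cases hO : pPrimeCore 2 G = ⊥
  swap
  · have h1 := hquot _ hO
    rwa [CfsgLib.pPrimeCore_quotient_eq_bot, Subgroup.mem_bot, QuotientGroup.eq_one_iff] at h1
  obtain ⟨k, hk⟩ := IsPGroup.iff_orderOf.1 S.2 ⟨z, hz⟩
  rw [Subgroup.orderOf_mk] at hk
  obtain ⟨j, rfl⟩ : ∃ j, k = j + 1 := ⟨k - 1, by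
    rcases Nat.eq_zero_or_pos k with rfl | hp
    · exact absurd (orderOf_eq_one_iff.1 (by simpa using hk)) hz1
    · omega⟩
  set u := z ^ 2 ^ j with hu_def
  have hu : orderOf u = 2 := by
    rw [hu_def, orderOf_pow, hk, Nat.gcd_eq_right ⟨2, by rw [pow_succ]⟩, pow_succ,
      Nat.mul_div_cancel_left _ (by positivity)]
  have hucomm : ∀ x : G, x * u = u * x := by
    intro x
    have h1 := inZStar hu (isolated_of_sylow S hu ((S : Subgroup G).pow_mem hz _)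
      (fun y hy => h _ y hy)) x
    rw [hO, Subgroup.mem_bot, mul_inv_eq_one, mul_inv_eq_iff_eq_mul] at h1
    exact h1
  set Z := Subgroup.zpowers u
  have hZc : Z ≤ Subgroup.center G :=
    Subgroup.zpowers_le.2 (Subgroup.mem_center_iff.2 hucomm)
  haveI : Z.Normal := ⟨fun x hx y => by
    rw [Subgroup.mem_center_iff.1 (hZc hx) y, mul_inv_cancel_right]; exact hx⟩
  have hZp : IsPGroup 2 Z := IsPGroup.of_card (n := 1) (by rw [Nat.card_zpowers, hu, pow_one])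
  have hZ1 : Z ≠ ⊥ := fun e => by
    rw [Subgroup.zpowers_eq_bot.1 e, orderOf_one] at hu; norm_num at hu
  set w := g * z * g⁻¹ * z⁻¹ with hw
  have hwq := hquot Z hZ1
  have hodd : Odd (orderOf (w : G ⧸ Z)) := by
    rw [← Nat.coprime_two_left]
    exact Nat.Coprime.coprime_dvd_right (Subgroup.orderOf_dvd_natCard _ hwq)
      (CfsgLib.card_pPrimeCore_coprime 2).symm
  have hwZ : w ∈ Z := by
    obtain ⟨e, m, hm, hwm⟩ := Nat.exists_eq_two_pow_mul_odd (orderOf_pos w).ne'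
    have h1 : w ^ 2 ^ e = 1 := eq_one_of_mem_comap hO Z hZc hZp
      (by rw [orderOf_pow, hwm, Nat.gcd_eq_right (dvd_mul_right _ _),
        Nat.mul_div_cancel_left _ (by positivity)]; exact hm)
      (by rw [QuotientGroup.mk_pow]; exact (pPrimeCore 2 (G ⧸ Z)).pow_mem hwq _)
    have h2 : orderOf (w : G ⧸ Z) ∣ 2 ^ e :=
      orderOf_dvd_of_pow_eq_one (by rw [← QuotientGroup.mk_pow, h1]; rfl)
    have h3 : orderOf (w : G ⧸ Z) = 1 := Nat.eq_one_of_dvd_coprimes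
      ((Nat.coprime_two_left.2 hodd).pow_left e) h2 dvd_rfl
    exact (QuotientGroup.eq_one_iff w).1 (orderOf_eq_one_iff.1 h3)
  have hgz : g * z * g⁻¹ ∈ S := by
    have : g * z * g⁻¹ = w * z := by rw [hw]; group
    rw [this]
    refine (S : Subgroup G).mul_mem ?_ hz
    exact (Subgroup.zpowers_le.2 ((S : Subgroup G).pow_mem hz _) : Z ≤ (S : Subgroup G)) hwZ
  have h2 := h 1 g (by simpa using hgz)
  rw [pow_one] at h2
  rw [show w = 1 by rw [hw, h2, mul_inv_cancel]]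
  exact one_mem _

end CfsgLib.ZStar
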