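import Cfsg.Agent.Lib.ZStar.Isolated
import Cfsg.Agent.S0942

/-! The character argument of Glauberman: an isolated involution against another class of
involutions. -/

set_option autoImplicit false
set_option maxHeartbeats 400000
set_option linter.unusedSectionVars false

namespace CfsgLib.ZStar

open Cfsg CfsgLib.Blocks CfsgLib.CharTheory

universe u

variable {G : Type u} [Group G] [Fintype G]

/-- Existence of a maximal ideal of the algebraic integers above a prime. -/
theorem exists_isPModular {p : ℕ} (hp : p.Prime) : ∃ M : Ideal AlgInt, IsPModular p M := by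
  have hne : Ideal.span ({(p : AlgInt)} : Set AlgInt) ≠ ⊤ := by
    rw [Ne, Ideal.span_singleton_eq_top]
    rintro ⟨w, hw⟩
    have h1 : (p : ℂ) * ((w⁻¹ : AlgIntˣ) : AlgInt) = 1 := by
      have h := congrArg (fun a : AlgInt => (a : ℂ)) w.mul_inv
      rw [hw] at h
      simpa using h
    have h2 : (((w⁻¹ : AlgIntˣ) : AlgInt) : ℂ) = (((p : ℚ)⁻¹ : ℚ) : ℂ) := by
      rw [Rat.cast_inv, Rat.cast_natCast]
      exact eq_inv_of_mul_eq_one_right h1
    obtain ⟨n, hn⟩ := exists_int_of_isIntegral_ratCast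
      (h2 ▸ ((w⁻¹ : AlgIntˣ) : AlgInt).2 : IsIntegral ℤ (((p : ℚ)⁻¹ : ℚ) : ℂ))
    have h3 : (p : ℤ) * n = 1 := by
      have h4 : (p : ℚ) * (n : ℚ) = 1 := by
        rw [← hn, mul_inv_cancel₀ (Nat.cast_ne_zero.2 hp.ne_zero)]
      exact_mod_cast h4
    have h5 := Int.eq_one_of_mul_eq_one_right (Int.natCast_nonneg p) h3
    exact hp.ne_one (by exact_mod_cast h5)
  obtain ⟨M, hM, hle⟩ := Ideal.exists_le_maximal _ hne
  exact ⟨M, hp, hM, hle (Ideal.mem_span_singleton_self _)⟩

/-- The class sum identity. -/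
theorem sum_conj_shift (χ : IrrCharacter G) (u y : G) :
    ∑ g : G, (χ : G → ℂ) (g * u * g⁻¹ * y) =
      (Nat.card G : ℂ) * ((χ : G → ℂ) u / (χ : G → ℂ) 1) * (χ : G → ℂ) y := by
  classical
  set f : G → ℂ := fun x => ∑ g : G, if g * u * g⁻¹ = x then 1 else 0 with hf
  have hfc : IsClassFunction G f := by
    intro x h
    refine Fintype.sum_equiv (Equiv.mulLeft h⁻¹) _ _ fun g => ?_
    simp only [Equiv.coe_mulLeft]
    refine if_congr ?_ rfl rfl
    constructor
    · intro e
      calc h⁻¹ * g * u * (h⁻¹ * g)⁻¹ = h⁻¹ * (g * u * g⁻¹) * h := by group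
        _ = x := by rw [e]; group
    · intro e
      rw [← e]; group
  have hsum : ∀ F : G → ℂ, ∑ x, f x * F x = ∑ g : G, F (g * u * g⁻¹) := by
    intro F
    simp only [hf, Finset.sum_mul]
    rw [Finset.sum_comm]
    refine Finset.sum_congr rfl fun g _ => ?_
    simp
  have h1 := sum_classFun_mul_shift hfc χ y
  rw [hsum fun x => (χ : G → ℂ) (x * y), omega, hsum fun x => (χ : G → ℂ) x,
    Finset.sum_congr rfl fun g _ => irr_isClassFun χ u g, Finset.sum_const, Finset.card_univ,
    nsmul_eq_mul, ← Nat.card_eq_fintype_card] at h1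
  rw [h1]; ring

/-- A character taking its degree at `u` takes it at all conjugates and is trivial on what they
generate. -/
theorem eq_one_of_apply_eq (χ : IrrCharacter G) {u : G} (h : (χ : G → ℂ) u = (χ : G → ℂ) 1)
    (hgen : Subgroup.normalClosure ({u} : Set G) = ⊤) : (χ : G → ℂ) = fun _ => 1 := by
  obtain ⟨n, ρ, hirr, hχ⟩ := χ.2
  have hiff : ∀ g, (χ : G → ℂ) g = (χ : G → ℂ) 1 ↔ ρ g = 1 := by
    intro g
    rw [← hχ, Representation.char_one]
    exact character_eq_finrank_iff ρ g
  have hker : (MonoidHom.toHomUnits ρ).ker = ⊤ := by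
    rw [eq_top_iff, ← hgen]
    refine Subgroup.normalClosure_le_normal ?_
    intro x hx
    rw [Set.mem_singleton_iff] at hx
    subst hx
    exact Units.ext ((hiff x).1 h)
  have hall : ∀ g, (χ : G → ℂ) g = (χ : G → ℂ) 1 := by
    intro g
    have hg : g ∈ (MonoidHom.toHomUnits ρ).ker := by rw [hker]; exact Subgroup.mem_top g
    exact (hiff g).2 (congrArg Units.val hg)
  have h1 := classInner_irr_self χ.2
  have h2 : classInner (χ : G → ℂ) (fun _ => 1) = (χ : G → ℂ) 1 := by
    simp only [classInner, map_one, mul_one]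
    rw [Finset.sum_congr rfl fun g _ => hall g, Finset.sum_const, Finset.card_univ, nsmul_eq_mul,
      Nat.card_eq_fintype_card, ← mul_assoc,
      inv_mul_cancel₀ (Nat.cast_ne_zero.2 Fintype.card_ne_zero), one_mul]
  by_contra hne
  rw [classInner_irr_ne χ.2 isIrrCharacter_one hne] at h2
  exact irr_one_ne_zero χ h2.symm

variable (u : G)

/-- In a minimal situation every involution is conjugate to the isolated one. -/
theorem all_involutions_conj (hu : orderOf u = 2) (hiso : IsIsolated u)
    (hgen : Subgroup.normalClosure ({u} : Set G) = ⊤)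
    (hloc : ∀ z : G, orderOf z = 2 → ¬ IsConj u z → ∀ w : G, IsConj u w → Commute w z →
      ∀ c : G, Commute c z → w * c * w⁻¹ * c⁻¹ ∈ centralizerPPrimeCore 2 z) :
    ∀ v : G, orderOf v = 2 → IsConj u v := by
  classical
  intro v₀ hv₀
  by_contra hv₀u
  obtain ⟨M, hM⟩ := exists_isPModular Nat.prime_two
  set B := principalBlock M G with hBdef
  have hB : IsPBlock M B := principalBlock_isPBlock
  -- products of a conjugate of `u` with another involution
  have key : ∀ v : G, orderOf v = 2 → ¬ IsConj u v → ∀ g : G, ∃ z : G, orderOf z = 2 ∧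
      ¬ IsConj u z ∧ ∀ χ ∈ bset B, (χ : G → ℂ) (g * u * g⁻¹ * v) = (χ : G → ℂ) z := by
    intro v hv hvu g
    set w := g * u * g⁻¹ with hwdef
    have hw : orderOf w = 2 := by rw [hwdef, orderOf_conj, hu]
    have hwu : IsConj u w := isConj_iff.2 ⟨g, rfl⟩
    have hwiso := isolated_conj hiso g
    rw [← hwdef] at hwiso
    set x := w * v with hx
    have hpow : ∀ m : ℕ, w * (x ^ m) * w⁻¹ * (x ^ m)⁻¹ = (x ^ (2 * m))⁻¹ := fun m => by
      rw [conj_pow_mul hw hv, two_mul, pow_add, mul_inv_rev]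
    have h2 : Odd (orderOf (x ^ 2)) := by
      have h := odd_orderOf_mul_conj hw hwiso x
      have e : w * (x * w * x⁻¹) = (x ^ 2)⁻¹ := by
        have h1 := hpow 1
        rw [pow_one, inv_eq_self hw, mul_one] at h1
        simpa [mul_assoc] using h1
      rwa [e, orderOf_inv] at h
    have hxne : ¬ Odd (orderOf x) := by
      rintro ⟨j, hj⟩
      apply hvu
      refine hwu.trans (isConj_iff.2 ⟨(x ^ (j + 1))⁻¹, ?_⟩)
      have h := conj_pow_mul hw hv (j + 1)
      rw [← hx, inv_eq_self hw] at h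
      rw [inv_inv]
      calc (x ^ (j + 1))⁻¹ * w * x ^ (j + 1)
          = w * x ^ (j + 1) * w * w * x ^ (j + 1) := by rw [h]
        _ = w * x ^ (j + 1) * (w * w) * x ^ (j + 1) := by group
        _ = w * (x ^ (2 * j + 1) * x) := by
          rw [sq_eq_one hw, mul_one, mul_assoc, ← pow_add, ← pow_succ]; ring_nf
        _ = v := by
          rw [← hj, pow_orderOf_eq_one, one_mul, hx, ← mul_assoc, sq_eq_one hw, one_mul]
    obtain ⟨k, hk⟩ := Nat.not_odd_iff_even.1 hxne
    have hk0 : k ≠ 0 := by have := orderOf_pos x; omega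
    have hx2 : orderOf (x ^ 2) = k := by
      rw [orderOf_pow' x two_ne_zero, hk, ← two_mul,
        Nat.gcd_eq_right (dvd_mul_right 2 k), Nat.mul_div_cancel_left k two_pos]
    rw [hx2] at h2
    obtain ⟨j, hj⟩ := h2
    set z := x ^ k with hz
    have hzz : z * z = 1 := by rw [hz, ← pow_add, ← hk, pow_orderOf_eq_one]
    have hz2 : orderOf z = 2 :=
      orderOf_eq_prime (by rw [pow_two, hzz]) (pow_ne_one_of_lt_orderOf hk0 (by omega))
    have hwz : Commute w z := by
      show w * z = z * w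
      rw [← mul_inv_eq_iff_eq_mul, hz, conj_pow_mul hw hv, ← hz, inv_eq_self hz2]
    have hzu : ¬ IsConj u z := by
      intro hc
      obtain ⟨h, hh⟩ := isConj_iff.1 (hwu.symm.trans hc)
      have he := hwiso h (by rw [hh]; exact hwz)
      rw [hh] at he
      have hwx : Commute w x := by rw [← he, hz]; exact ((Commute.refl x).pow_left k)
      have h1 := hpow 1
      rw [pow_one, hwx.eq, mul_inv_cancel_right, mul_inv_cancel, mul_one, eq_comm,
        inv_eq_one] at h1
      have hk1 : k = 1 := by rw [← hx2, h1, orderOf_one]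
      rw [hz, hk1, pow_one, hx, mul_eq_left] at he
      rw [he, orderOf_one] at hv
      exact absurd hv (by norm_num)
    refine ⟨z, hz2, hzu, fun χ hχ => ?_⟩
    have hxx : x = z * x ^ (2 * (j + 1)) := by
      rw [hz, ← pow_add, show k + 2 * (j + 1) = orderOf x + (0 * k + 1) by omega, pow_add,
        pow_orderOf_eq_one, one_mul, zero_mul, zero_add, pow_one]
    have hmem : x ^ (2 * (j + 1)) ∈ centralizerPPrimeCore 2 z := by
      have h := hloc z hz2 hzu w hwu hwz (x ^ (j + 1)) ((Commute.refl x).pow_pow _ _)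
      rw [hpow] at h
      exact (Subgroup.inv_mem_iff _).1 h
    have := Cfsg.Agent.S0942.result 2 M hM z ⟨1, by rw [hz2, pow_one]⟩ _ hmem χ (mem_bset.1 hχ)
    rw [← hxx] at this
    exact this
  -- the orthogonality vector survives multiplication by `χ(u)/χ(1)`
  set a : IrrCharacter G → ℂ := fun χ => (χ : G → ℂ) u / (χ : G → ℂ) 1 with ha
  have hG0 : (Nat.card G : ℂ) ≠ 0 := Nat.cast_ne_zero.2 Nat.card_pos.ne'
  have hT : ∀ T : Finset ℂ, ∀ v : G, orderOf v = 2 → ¬ IsConj u v →
      ∑ χ ∈ bset B, (χ : G → ℂ) 1 * (∏ c ∈ T, (a χ - c)) * (χ : G → ℂ) v = 0 := by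
    intro T
    induction T using Finset.induction_on with
    | empty =>
      intro v hv _
      haveI : Fact (Nat.Prime 2) := ⟨Nat.prime_two⟩
      have h := block_orth hM hB (g := v) (h := 1) (x := v) (y := 1)
        ⟨1, mul_one v, Commute.one_right v, ⟨1, by rw [hv, pow_one]⟩,
          by rw [orderOf_one]; norm_num⟩
        ⟨1, mul_one 1, Commute.one_right 1, ⟨0, by rw [orderOf_one, pow_zero]⟩,
          by rw [orderOf_one]; norm_num⟩
        (fun hc => by
          rw [isConj_one_left] at hc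
          rw [hc, orderOf_one] at hv
          exact absurd hv (by norm_num))
      rw [← h]
      refine Finset.sum_congr rfl fun χ _ => ?_
      rw [Finset.prod_empty, mul_one, inv_one, mul_comm]
    | @insert c T hcT ih =>
      intro v hv hvu
      choose z hz using key v hv hvu
      have hexp : ∀ χ ∈ bset B, a χ * (χ : G → ℂ) v =
          (Nat.card G : ℂ)⁻¹ * ∑ g, (χ : G → ℂ) (z g) := by
        intro χ hχ
        rw [← Finset.sum_congr rfl fun g _ => (hz g).2.2 χ hχ, sum_conj_shift, ← mul_assoc,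
          ← mul_assoc, inv_mul_cancel₀ hG0, one_mul]
      have hterm : ∀ χ ∈ bset B,
          (χ : G → ℂ) 1 * (∏ d ∈ insert c T, (a χ - d)) * (χ : G → ℂ) v =
          (Nat.card G : ℂ)⁻¹ * ∑ g, (χ : G → ℂ) 1 * (∏ d ∈ T, (a χ - d)) * (χ : G → ℂ) (z g) -
            c * ((χ : G → ℂ) 1 * (∏ d ∈ T, (a χ - d)) * (χ : G → ℂ) v) := by
        intro χ hχ
        rw [Finset.prod_insert hcT, ← Finset.mul_sum]
        have := hexp χ hχ
        linear_combination ((χ : G → ℂ) 1 * (∏ d ∈ T, (a χ - d))) * this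
      rw [Finset.sum_congr rfl hterm, Finset.sum_sub_distrib, ← Finset.mul_sum, ← Finset.mul_sum,
        ih v hv hvu, mul_zero, sub_zero, Finset.sum_comm,
        Finset.sum_eq_zero fun g _ => ih (z g) (hz g).1 (hz g).2.1, mul_zero]
  have h1 := hT (((bset B).image a).erase 1) v₀ hv₀ hv₀u
  have hone : (oneIrr G : IrrCharacter G) ∈ bset B := mem_bset.2 (oneIrr_mem hM)
  rw [Finset.sum_eq_single_of_mem _ hone] at h1
  · simp only [ha, oneIrr, div_one, one_mul, mul_one] at h1
    obtain ⟨c, hc, hc0⟩ := Finset.prod_eq_zero_iff.1 h1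
    exact (Finset.mem_erase.1 hc).1 (sub_eq_zero.1 hc0).symm
  · intro χ hχ hne
    rcases eq_or_ne (a χ) 1 with h | h
    · exfalso
      refine hne (Subtype.ext (eq_one_of_apply_eq χ ?_ hgen))
      exact (div_eq_one_iff_eq (irr_one_ne_zero χ)).1 h
    · rw [Finset.prod_eq_zero (Finset.mem_erase.2 ⟨h, Finset.mem_image_of_mem a hχ⟩) (sub_self _),
        mul_zero, zero_mul]

end CfsgLib.ZStar
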