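import Cfsg.Agent.Lib.ZStar.Main
import Cfsg.Agent.Lib.Coprime

/-! Involutions whose products with their conjugates are `p`-elements. -/

set_option autoImplicit false
set_option maxHeartbeats 400000
set_option linter.style.haveILetI false

namespace CfsgLib.ZStar

open Cfsg

universe u

variable {G : Type u} [Group G] [Finite G]

theorem eq_one_of_ppow_two {p : ℕ} (hp : p.Prime) (hp2 : p ≠ 2) {w : G} (h2 : w * w = 1)
    (hw : ∃ k : ℕ, orderOf w = p ^ k) : w = 1 := by
  obtain ⟨k, hk⟩ := hw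
  rw [← orderOf_eq_one_iff]
  refine Nat.eq_one_of_dvd_coprimes (((Nat.coprime_primes hp Nat.prime_two).2 hp2).pow_left k)
    (dvd_of_eq hk) (orderOf_dvd_of_pow_eq_one (by rw [pow_two, h2]))

/-- If all products of an involution with its conjugates are `p`-elements (`p` odd) they lie in
`O_p(G)`. -/
theorem mul_conj_mem_pCore {p : ℕ} (hp : p.Prime) (hp2 : p ≠ 2) {e : G} (he : orderOf e = 2)
    (h : ∀ g : G, ∃ k : ℕ, orderOf (e * (g * e * g⁻¹)) = p ^ k) (g : G) :
    e * (g * e * g⁻¹) ∈ pCore p G := by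
  classical
  haveI : Fact p.Prime := ⟨hp⟩
  have hee := sq_eq_one he
  have hei := inv_eq_self he
  have hiso : IsIsolated e := by
    intro g hg
    have h1 : e * (g * e * g⁻¹) = 1 := eq_one_of_ppow_two hp hp2 (by
      calc e * (g * e * g⁻¹) * (e * (g * e * g⁻¹)) = e * ((g * e * g⁻¹) * e) * (g * e * g⁻¹) := by group
        _ = e * (e * (g * e * g⁻¹)) * (g * e * g⁻¹) := by rw [hg.eq]
        _ = (e * e) * (g * (e * e) * g⁻¹) := by group
        _ = 1 := by rw [hee, mul_one, mul_inv_cancel, one_mul]) (h g)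
    rw [mul_eq_one_iff_inv_eq, hei] at h1
    exact h1.symm
  set K := pPrimeCore 2 G with hK
  set c : G → G := fun y => e * (y * e * y⁻¹) with hc
  have hcK : ∀ y, c y ∈ K := fun y => by
    have h := commutator_mem he hiso y
    rw [hei] at h
    have e1 : c y = e * y * e * y⁻¹ := by simp only [hc]; group
    rw [e1]; exact h
  have hmul : ∀ y z, c (y * z) = c y * (y * c z * y⁻¹) := fun y z => by
    simp only [hc]
    calc e * (y * z * e * (y * z)⁻¹) = e * (y * z * e * (z⁻¹ * y⁻¹)) := by rw [mul_inv_rev]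
      _ = e * y * ((e * e) * z * e * z⁻¹) * y⁻¹ := by rw [hee]; group
      _ = e * (y * e * y⁻¹) * (y * (e * (z * e * z⁻¹)) * y⁻¹) := by group
  have hinvc : ∀ y, e * c y * e⁻¹ = (c y)⁻¹ := fun y => by
    simp only [hc]
    rw [mul_inv_rev, mul_inv_rev, mul_inv_rev, inv_inv, hei]
    calc e * (e * (y * e * y⁻¹)) * e = (e * e) * (y * e * y⁻¹) * e := by group
      _ = y * (e * y⁻¹) * e := by rw [hee]; group
  set A := Subgroup.zpowers e with hA
  have hAK : A ≤ Subgroup.normalizer (K : Set G) := by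
    rw [Subgroup.normalizer_eq_top (H := K)]; exact le_top
  have hcop : (Nat.card A).Coprime (Nat.card K) := by
    rw [Nat.card_zpowers, he]; exact (CfsgLib.card_pPrimeCore_coprime 2).symm
  have hsolv : Group.IsSolvable A ∨ Group.IsSolvable K :=
    Or.inl (Group.isSolvable_of_comm fun a b => by
      obtain ⟨i, hi⟩ := Subgroup.mem_zpowers_iff.1 a.2
      obtain ⟨j, hj⟩ := Subgroup.mem_zpowers_iff.1 b.2
      exact Subtype.ext (by rw [Subgroup.coe_mul, Subgroup.coe_mul, ← hi, ← hj, zpow_mul_comm]))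
  set C : Subgroup K := (Subgroup.centralizer ({e} : Set G)).subgroupOf K with hC
  have hmemC : ∀ y : K, y ∈ C ↔ c y = 1 := fun y => by
    rw [hC, Subgroup.mem_subgroupOf, Subgroup.mem_centralizer_singleton_iff]
    simp only [hc]
    rw [mul_eq_one_iff_inv_eq, hei, eq_mul_inv_iff_mul_eq, eq_comm]
  have hsyl : ∀ (q : ℕ) [Fact q.Prime], ∃ Q : Sylow q K,
      ∀ y : K, y ∈ (Q : Subgroup K) → ∃ w : K, w ∈ (Q : Subgroup K) ∧ (w : G) = c y := by
    intro q _
    obtain ⟨Q, hQ⟩ := CfsgLib.coprime_exists_invariant_sylow hAK hcop hsolv q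
    refine ⟨Q, fun y hy => ?_⟩
    have h1 := (Subgroup.mem_normalizer_iff.1 (hQ (Subgroup.mem_zpowers e)) (y : G)).1 ⟨y, hy, rfl⟩
    have h2 : c y ∈ (Q : Subgroup K).map K.subtype := by
      have := ((Q : Subgroup K).map K.subtype).mul_mem h1
        (((Q : Subgroup K).map K.subtype).inv_mem ⟨y, hy, rfl⟩)
      rw [hei] at this
      simp only [hc]
      rwa [show e * ((y : G) * e * (y : G)⁻¹) = e * (y : G) * e * (y : G)⁻¹ by group]
    obtain ⟨w, hw, hw'⟩ := h2
    exact ⟨w, hw, hw'⟩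
  have hidx : ∀ q : ℕ, q.Prime → q ∣ C.index → q = p := by
    intro q hq hqi
    by_contra hqp
    haveI : Fact q.Prime := ⟨hq⟩
    obtain ⟨Q, hQ⟩ := hsyl q
    refine Q.not_dvd_index (hqi.trans (Subgroup.index_dvd_of_le fun y hy => ?_))
    obtain ⟨w, hw, hw'⟩ := hQ y hy
    rw [hmemC]
    obtain ⟨j, hj⟩ := IsPGroup.iff_orderOf.1 Q.2 (⟨w, hw⟩ : (Q : Subgroup K))
    rw [Subgroup.orderOf_mk, ← Subgroup.orderOf_coe, hw'] at hj
    obtain ⟨k, hk⟩ := h (y : G)
    rw [← orderOf_eq_one_iff]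
    exact Nat.eq_one_of_dvd_coprimes
      ((((Nat.coprime_primes hq hp).2 hqp).pow_left j).pow_right k)
      (dvd_of_eq hj) (dvd_of_eq hk)
  obtain ⟨P, hP⟩ := hsyl p
  -- every coset of `C` meets `P`
  set f : (P : Subgroup K) ⧸ C.subgroupOf (P : Subgroup K) → K ⧸ C :=
    Quotient.map' (fun y => (y : K)) (fun a b hab => by
      rw [QuotientGroup.leftRel_apply] at hab ⊢
      exact hab) with hf
  have hfinj : Function.Injective f := by
    intro a b hab
    induction a using QuotientGroup.induction_on with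
    | H a =>
      induction b using QuotientGroup.induction_on with
      | H b =>
        rw [QuotientGroup.eq, Subgroup.mem_subgroupOf]
        exact QuotientGroup.eq.1 hab
  have hfsurj : Function.Surjective f := by
    have hcard : Nat.card ((P : Subgroup K) ⧸ C.subgroupOf (P : Subgroup K)) = Nat.card (K ⧸ C) := by
      refine le_antisymm (Nat.card_le_card_of_injective f hfinj) ?_
      rw [← Subgroup.index_eq_card, ← Subgroup.index_eq_card]
      obtain ⟨a, ha⟩ : ∃ a, C.index = p ^ a :=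
        ⟨_, Nat.eq_prime_pow_of_unique_prime_dvd C.index_ne_zero_of_finite fun {d} hd hdd => hidx d hd hdd⟩
      set R := C.subgroupOf (P : Subgroup K) with hR
      have h1 := R.card_mul_index
      have h2 := C.card_mul_index
      obtain ⟨b, hb⟩ := IsPGroup.iff_card.1 (P.2.to_subgroup R)
      obtain ⟨n, hn⟩ := IsPGroup.iff_card.1 P.2
      have hn' := P.card_eq_multiplicity
      rw [hn] at hn'
      have hn'' := Nat.pow_right_injective hp.two_le hn'
      have hbC : p ^ b ∣ Nat.card C := by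
        rw [← hb, hR]
        exact Subgroup.card_dvd_of_injective ((P : Subgroup K).subtype.subgroupComap C)
          (fun x y hxy => Subtype.ext (Subtype.ext (congrArg (fun t : C => (t : K)) hxy)))
      have hle : b + a ≤ n := by
        rw [hn'']
        refine (hp.pow_dvd_iff_le_factorization Nat.card_pos.ne').1 ?_
        rw [pow_add, ← ha, ← h2]
        exact Nat.mul_dvd_mul hbC dvd_rfl
      obtain ⟨r, hr⟩ : ∃ r, R.index = p ^ r := by
        have : R.index ∣ p ^ n := ⟨Nat.card R, by rw [← hn, ← h1, mul_comm]⟩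
        obtain ⟨r, -, hr⟩ := (Nat.dvd_prime_pow hp).1 this
        exact ⟨r, hr⟩
      rw [hn, hb, hr, ← pow_add] at h1
      have := Nat.pow_right_injective hp.two_le h1
      rw [ha, hr]
      exact Nat.pow_le_pow_right hp.pos (by omega)
    exact ((Nat.bijective_iff_injective_and_card f).2 ⟨hfinj, hcard⟩).2
  have hcP : ∀ y : K, ∃ w : K, w ∈ (P : Subgroup K) ∧ (w : G) = c y := by
    intro y
    obtain ⟨a, ha⟩ := hfsurj (y : K ⧸ C)
    induction a using QuotientGroup.induction_on with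
    | H a =>
      have hC' : (a : K)⁻¹ * y ∈ C := QuotientGroup.eq.1 ha
      rw [hmemC] at hC'
      obtain ⟨w, hw, hw'⟩ := hP a a.2
      refine ⟨w, hw, ?_⟩
      rw [hw', show ((y : K) : G) = ((a : K) : G) * (((a : K)⁻¹ * y : K) : G) by simp, hmul, hC',
        mul_one, mul_inv_cancel, mul_one]
  -- the subgroup generated by the inverted elements
  set S : Subgroup K := Subgroup.closure {w : K | ∃ y : K, (w : G) = c y} with hS
  have hSP : S ≤ P := by
    rw [hS, Subgroup.closure_le]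
    rintro w ⟨y, hy⟩
    obtain ⟨w', hw', e'⟩ := hcP y
    rwa [show w = w' from Subtype.ext (hy.trans e'.symm)]
  haveI hSn : S.Normal := ⟨fun w hw k => by
    induction hw using Subgroup.closure_induction with
    | mem w hw =>
      obtain ⟨y, hy⟩ := hw
      have h1 : (⟨c k, hcK k⟩ : K) ∈ S := Subgroup.subset_closure ⟨k, rfl⟩
      have h2 : (⟨c ((k : G) * y), hcK _⟩ : K) ∈ S := Subgroup.subset_closure ⟨k * y, rfl⟩
      have h3 : k * w * k⁻¹ = (⟨c k, hcK k⟩ : K)⁻¹ * ⟨c ((k : G) * y), hcK _⟩ := Subtype.ext (by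
        simp only [Subgroup.coe_mul, Subgroup.coe_inv, hy]
        rw [hmul, inv_mul_cancel_left])
      rw [h3]; exact S.mul_mem (S.inv_mem h1) h2
    | one => simp
    | mul a b _ _ iha ihb =>
      rw [show k * (a * b) * k⁻¹ = k * a * k⁻¹ * (k * b * k⁻¹) by group]; exact S.mul_mem iha ihb
    | inv a _ iha =>
      rw [show k * a⁻¹ * k⁻¹ = (k * a * k⁻¹)⁻¹ by group]; exact S.inv_mem iha⟩
  have hScore : S ≤ pCore p K := CfsgLib.le_pCore (P.2.to_le hSP)
  have hmap : (pCore p K).map K.subtype ≤ pCore p G :=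
    CfsgLib.le_pCore ((CfsgLib.isPGroup_pCore p).map K.subtype)
  -- `c g` is of the form `c y` with `y ∈ K`
  obtain ⟨j, hj⟩ : Odd (orderOf (c g)) := by
    obtain ⟨k, hk⟩ := h g
    exact hk ▸ (hp.odd_of_ne_two hp2).pow
  set y₀ : G := ((c g) ^ (j + 1))⁻¹ with hy₀
  have hy₀K : y₀ ∈ K := K.inv_mem (K.pow_mem (hcK g) _)
  have hcy : c y₀ = c g := by
    have h1 : e * (c g) ^ (j + 1) * e⁻¹ = ((c g) ^ (j + 1))⁻¹ := by
      rw [← conj_pow, hinvc, inv_pow]
    calc c y₀ = (e * (c g) ^ (j + 1) * e⁻¹)⁻¹ * (c g) ^ (j + 1) := by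
          simp only [hc, hy₀]; rw [mul_inv_rev, mul_inv_rev, inv_inv, inv_inv, hei]; group
      _ = (c g) ^ (j + 1) * (c g) ^ (j + 1) := by rw [h1, inv_inv]
      _ = c g := by
        rw [← pow_add, show j + 1 + (j + 1) = (2 * j + 1) + 1 by ring, ← hj, pow_succ,
          pow_orderOf_eq_one, one_mul]
  exact hmap ⟨⟨c g, hcK g⟩, hScore (Subgroup.subset_closure ⟨⟨y₀, hy₀K⟩, hcy.symm⟩), rfl⟩

theorem products_mem_pCore {p : ℕ} (hp : p.Prime) (hp2 : p ≠ 2) {d : G} (hd : orderOf d = 2)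
    (hprod : ∀ a ∈ conjugatesOf d, ∀ b ∈ conjugatesOf d, ∃ k : ℕ, orderOf (a * b) = p ^ k) :
    ∀ a ∈ conjugatesOf d, ∀ b ∈ conjugatesOf d, a * b ∈ pCore p G := by
  intro a ha b hb
  obtain ⟨g, rfl⟩ := isConj_iff.1 (show IsConj d a from ha)
  obtain ⟨g', rfl⟩ := isConj_iff.1 (show IsConj d b from hb)
  have key := mul_conj_mem_pCore hp hp2 (e := g * d * g⁻¹) (by rw [orderOf_conj, hd])
    (fun k => hprod _ ha _ (show IsConj d _ from isConj_iff.2 ⟨k * g, by group⟩)) (g' * g⁻¹)
  rwa [show g' * g⁻¹ * (g * d * g⁻¹) * (g' * g⁻¹)⁻¹ = g' * d * g'⁻¹ by group] at key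

end CfsgLib.ZStar
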