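import Cfsg.Agent.Lib.ZStar.Main
import Cfsg.Agent.Lib.BrauerSuzukiQ.Theorem

/-! The Brauer–Suzuki theorem for all generalized quaternion Sylow 2-subgroups. -/

set_option autoImplicit false
set_option maxHeartbeats 400000
set_option linter.style.haveILetI false

namespace CfsgLib.ZStar

open Cfsg

universe u

variable {G : Type u} [Group G] [Finite G]

theorem quaternion_center {k : ℕ} [NeZero k] (hk : 2 ≤ k) {q : QuaternionGroup k}
    (h : ∀ r, q * r = r * q) : q * q = 1 := by
  rcases q with i | i
  · have h1 := h (QuaternionGroup.xa 0)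
    rw [QuaternionGroup.a_mul_xa, QuaternionGroup.xa_mul_a] at h1
    have h2 := QuaternionGroup.xa.inj h1
    rw [QuaternionGroup.a_mul_a, ← QuaternionGroup.a_zero]
    congr 1
    linear_combination -h2
  · exfalso
    have h1 := h (QuaternionGroup.a 1)
    rw [QuaternionGroup.a_mul_xa, QuaternionGroup.xa_mul_a] at h1
    have h2 : ((2 : ℕ) : ZMod (2 * k)) = 0 := by
      push_cast; linear_combination QuaternionGroup.xa.inj h1
    rw [ZMod.natCast_eq_zero_iff] at h2
    have := Nat.le_of_dvd two_pos h2
    omega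

/-- **Brauer–Suzuki**: with trivial odd core a quaternion Sylow 2-subgroup gives a centre of
order 2. -/
theorem card_center_of_quaternion (S : Sylow 2 G) {k : ℕ} [NeZero k] (hk : 2 ≤ k)
    (e : (S : Subgroup G) ≃* QuaternionGroup k)
    (hO : ∀ N : Subgroup G, N.Normal → Odd (Nat.card N) → N = ⊥) :
    Nat.card (Subgroup.center G) = 2 := by
  haveI : Fact (Nat.Prime 2) := ⟨Nat.prime_two⟩
  obtain ⟨⟨t, htS⟩, ht⟩ := exists_prime_orderOf_dvd_card' (G := (S : Subgroup G)) 2 (by
    rw [Nat.card_congr e.toEquiv, Nat.card_eq_fintype_card, QuaternionGroup.card]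
    exact ⟨2 * k, by ring⟩)
  rw [Subgroup.orderOf_mk] at ht
  have huniq : ∀ w ∈ (S : Subgroup G), orderOf w = 2 → w = t := by
    intro w hw h2
    have key : ∀ w (hw : w ∈ (S : Subgroup G)), orderOf w = 2 →
        e ⟨w, hw⟩ = QuaternionGroup.a (k : ZMod (2 * k)) := fun w hw h2 =>
      CfsgLib.QuaternionSylow.quaternion_involution
        ((orderOf_injective e.toMonoidHom e.injective ⟨w, hw⟩).trans ((Subgroup.orderOf_mk w hw).trans h2))
    exact congrArg Subtype.val (e.injective ((key w hw h2).trans (key t htS ht).symm))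
  have hiso : IsIsolated t := isolated_of_sylow S ht htS fun g hg =>
    huniq _ hg (by rw [orderOf_conj, ht])
  have hO' : pPrimeCore 2 G = ⊥ := hO _ inferInstance
    (Nat.coprime_two_right.1 (CfsgLib.card_pPrimeCore_coprime 2))
  have htc : t ∈ Subgroup.center G := Subgroup.mem_center_iff.2 fun g => by
    have h := commutator_mem ht hiso g
    rw [hO', Subgroup.mem_bot, inv_eq_self ht] at h
    calc g * t = (t * g * t * g⁻¹)⁻¹ * (t * g * (t * t)) := by group
      _ = t * g := by rw [h, sq_eq_one ht]; group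
  have hle : Subgroup.center G ≤ (S : Subgroup G) := by
    refine le_trans (CfsgLib.le_pCore (p := 2) ?_) (CfsgLib.pCore_le_sylow S)
    intro z
    obtain ⟨a, m, hm, ham⟩ := Nat.exists_eq_two_pow_mul_odd (orderOf_pos z).ne'
    refine ⟨a, orderOf_eq_one_iff.1 ?_⟩
    set w := z ^ 2 ^ a
    have hw : orderOf w ∣ m := orderOf_dvd_of_pow_eq_one (by
      rw [← pow_mul, ← ham, pow_orderOf_eq_one])
    have hn : (Subgroup.zpowers (w : G)).Normal := ⟨fun x hx y => by
      rw [Subgroup.mem_center_iff.1 ((Subgroup.zpowers_le.2 w.2) hx) y, mul_inv_cancel_right]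
      exact hx⟩
    have hb := hO _ hn (by
      rw [Nat.card_zpowers, Subgroup.orderOf_coe]; exact hm.of_dvd_nat hw)
    rw [← Subgroup.orderOf_coe, Subgroup.zpowers_eq_bot.1 hb, orderOf_one]
  have hsq : ∀ z ∈ Subgroup.center G, z * z = 1 := by
    intro z hz
    have h := quaternion_center hk (q := e ⟨z, hle hz⟩) fun r => by
      obtain ⟨s, rfl⟩ := e.surjective r
      rw [← map_mul, ← map_mul]
      exact congrArg e (Subtype.ext ((Subgroup.mem_center_iff.1 hz s).symm))
    have := e.injective (h.trans (map_one e).symm |> (map_mul e _ _).trans)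
    exact congrArg Subtype.val this
  have heq : Subgroup.center G = Subgroup.zpowers t := by
    refine le_antisymm (fun z hz => ?_) (Subgroup.zpowers_le.2 htc)
    by_cases h1 : z = 1
    · rw [h1]; exact one_mem _
    · rw [huniq z (hle hz) (orderOf_eq_prime (by rw [pow_two, hsq z hz]) h1)]
      exact Subgroup.mem_zpowers t
  rw [heq, Nat.card_zpowers, ht]

end CfsgLib.ZStar
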