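import Cfsg.Agent.Lib.ZStar.Powers
import Cfsg.Agent.Lib.PSolvable
import Mathlib.GroupTheory.SpecificGroups.Cyclic

/-!
# A cyclic centre of a Sylow 2-subgroup that is central modulo the odd core
-/

set_option autoImplicit false
set_option maxHeartbeats 400000

namespace CfsgLib.ZStarCenter

open Cfsg

universe u

variable {G : Type u} [Group G] [Finite G]

/-- An element normalising a Sylow 2-subgroup fixes every central element whose cyclic group it normalises. -/
theorem fix_of_normalizer (S : Sylow 2 G) {c n : G} (hc : c ∈ S)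
    (hcc : ∀ s ∈ (S : Subgroup G), s * c * s⁻¹ = c)
    (hn : n ∈ Subgroup.normalizer ((S : Subgroup G) : Set G))
    (hnc : n * c * n⁻¹ ∈ Subgroup.zpowers c) : n * c * n⁻¹ = c := by
  haveI : Fact (Nat.Prime 2) := ⟨Nat.prime_two⟩
  set A := Subgroup.zpowers c with hA
  have hmap : A.map (MulAut.conj n).toMonoidHom = A := by
    refine Subgroup.eq_of_le_of_card_ge ?_ ?_
    · rw [hA, MonoidHom.map_zpowers, Subgroup.zpowers_le]
      exact hnc
    · rw [Subgroup.card_map_of_injective (MulAut.conj n).injective]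
  have hnA : n ∈ Subgroup.normalizer (A : Set G) := by
    rw [Subgroup.mem_normalizer_iff]
    intro a
    constructor
    · intro ha
      rw [← hmap]
      exact ⟨a, ha, rfl⟩
    · intro ha
      rw [← hmap] at ha
      obtain ⟨b, hb, hbe⟩ := ha
      have : b = a := (MulAut.conj n).injective hbe
      exact this ▸ hb
  set K := Subgroup.normalizer (A : Set G) with hK
  let φ : ↥K →* MulAut ↥A := A.normalizerMonoidHom
  have hA2 : IsPGroup 2 A := S.2.to_le (Subgroup.zpowers_le.2 hc)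
  haveI : IsCyclic ↥A := by rw [hA]; infer_instance
  obtain ⟨k, hk⟩ := IsPGroup.iff_card.1 hA2
  have hφ : φ ⟨n, hnA⟩ = 1 := by
    obtain ⟨a, m, hm, hnm⟩ := Nat.exists_eq_two_pow_mul_odd (orderOf_pos n).ne'
    -- the 2-part of `n` lies in `S`
    have hnS : n ^ m ∈ (S : Subgroup G) := by
      have hp : IsPGroup 2 (Subgroup.zpowers (n ^ m)) := IsPGroup.of_card (n := a) (by
        rw [Nat.card_zpowers, orderOf_pow, hnm, Nat.gcd_eq_right (dvd_mul_left _ _), Nat.mul_div_cancel _ hm.pos])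
      have hle : Subgroup.zpowers (n ^ m) ≤ Subgroup.normalizer ((S : Subgroup G) : Set G) :=
        Subgroup.zpowers_le.2 (pow_mem hn m)
      have hsup := IsPGroup.to_sup_of_normal_right' hp S.2 hle
      rw [← S.3 hsup le_sup_right]
      exact Subgroup.mem_sup_left (Subgroup.mem_zpowers _)
    have h1 : φ ⟨n, hnA⟩ ^ m = 1 := by
      rw [← map_pow]
      refine MulEquiv.ext fun ⟨x, hx⟩ => Subtype.ext ?_
      obtain ⟨i, rfl⟩ := Subgroup.mem_zpowers_iff.1 (hA ▸ hx)
      show n ^ m * c ^ i * (n ^ m)⁻¹ = c ^ i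
      rw [← conj_zpow, hcc _ hnS]
    have h2 : orderOf (φ ⟨n, hnA⟩) ∣ 2 ^ k := by
      refine (orderOf_dvd_natCard _).trans ?_
      rw [IsCyclic.card_mulAut, hk]
      rcases Nat.eq_zero_or_pos k with rfl | hk0
      · simp
      · rw [Nat.totient_prime_pow Nat.prime_two hk0]
        simpa using pow_dvd_pow 2 (Nat.sub_le k 1)
    rw [← orderOf_eq_one_iff]
    exact Nat.eq_one_of_dvd_coprimes ((Nat.coprime_two_left.2 hm).pow_left k) h2 (orderOf_dvd_of_pow_eq_one h1)
  have := congrArg (fun f : MulAut ↥A => ((f ⟨c, Subgroup.mem_zpowers c⟩ : ↥A) : G)) hφ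
  exact this

/-- Two conjugate central elements of a Sylow 2-subgroup with cyclic span are equal. -/
theorem eq_of_conj_central (S : Sylow 2 G) {c g : G} (hc : c ∈ S)
    (hcc : ∀ s ∈ (S : Subgroup G), s * c * s⁻¹ = c)
    (hg : g * c * g⁻¹ ∈ Subgroup.zpowers c) : g * c * g⁻¹ = c := by
  haveI : Fact (Nat.Prime 2) := ⟨Nat.prime_two⟩
  have h1 : c ∈ Subgroup.centralizer (S : Set G) := fun s hs => mul_inv_eq_iff_eq_mul.1 (hcc s hs)
  have h2 : (g⁻¹)⁻¹ * c * g⁻¹ ∈ Subgroup.centralizer (S : Set G) := by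
    rw [inv_inv]
    exact (Subgroup.zpowers_le.2 h1) hg
  obtain ⟨n, hn, he⟩ := S.conj_eq_normalizer_conj_of_mem_centralizer c g⁻¹ h1 h2
  rw [inv_inv] at he
  rw [he] at hg ⊢
  have := fix_of_normalizer S (n := n⁻¹) hc hcc (inv_mem hn) (by rwa [inv_inv])
  rwa [inv_inv] at this

/-- A cyclic central subgroup all of whose elements are central modulo the odd core:
the group is `O(G) C_G(Z)` and `O(G) Z` is normal. -/
theorem normal_sup (Z : Subgroup G) (hz : ∀ c ∈ Z, InZStar 2 c) : (pPrimeCore 2 G ⊔ Z).Normal := by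
  refine ⟨fun x hx g => ?_⟩
  obtain ⟨o, ho, c, hc, rfl⟩ := Subgroup.mem_sup_of_normal_left.1 hx
  have h : g * (o * c) * g⁻¹ = (g * o * g⁻¹) * (g * c * g⁻¹ * c⁻¹) * c := by group
  rw [h]
  exact Subgroup.mul_mem_sup
    ((pPrimeCore 2 G).mul_mem ((inferInstance : (pPrimeCore 2 G).Normal).conj_mem o ho g) (hz c hc g)) hc

theorem exists_split (Z : Subgroup G) (hZ : IsPGroup 2 Z) (hz : ∀ c ∈ Z, InZStar 2 c) (h : G) :
    ∃ o ∈ pPrimeCore 2 G, ∃ c ∈ Subgroup.centralizer (Z : Set G), h = o * c := by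
  haveI : Fact (Nat.Prime 2) := ⟨Nat.prime_two⟩
  set O := pPrimeCore 2 G with hO
  have hOcop : (Nat.card O).Coprime 2 := CfsgLib.card_pPrimeCore_coprime 2
  set M := Z ⊔ O with hM
  haveI : M.Normal := by rw [hM, sup_comm]; exact normal_sup Z hz
  have hidx : ¬ 2 ∣ (Z.subgroupOf M).index := by
    intro h2
    have hd := CfsgLib.card_sup_dvd_mul Z O
    rw [← hM, ← (Z.subgroupOf M).card_mul_index,
      Nat.card_congr (Subgroup.subgroupOfEquivOfLe (le_sup_left : Z ≤ M)).toEquiv] at hd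
    have h3 : (Z.subgroupOf M).index ∣ Nat.card O := Nat.dvd_of_mul_dvd_mul_left Nat.card_pos hd
    have h4 := Nat.eq_one_of_dvd_coprimes hOcop (h2.trans h3) dvd_rfl
    norm_num at h4
  let P : Sylow 2 M := (hZ.comap_subtype (K := M)).toSylow hidx
  have hfr := Sylow.normalizer_sup_eq_top P
  have hP : (P : Subgroup M).map M.subtype = Z := by
    show (Z.subgroupOf M).map M.subtype = Z
    rw [Subgroup.subgroupOf_map_subtype, inf_of_le_left (le_sup_left : Z ≤ M)]
  rw [hP] at hfr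
  have hmem : h ∈ M ⊔ Subgroup.normalizer (Z : Set G) := by rw [sup_comm, hfr]; trivial
  obtain ⟨m, hm, n, hn, rfl⟩ := Subgroup.mem_sup_of_normal_left.1 hmem
  obtain ⟨o, ho, z, hzZ, hmz⟩ := Subgroup.mem_sup_of_normal_left.1 (show m ∈ O ⊔ Z by rwa [sup_comm])
  refine ⟨o, ho, z * n, ?_, by rw [← hmz, mul_assoc]⟩
  intro c hc
  have hn' : z * n ∈ Subgroup.normalizer (Z : Set G) := mul_mem (Subgroup.le_normalizer hzZ) hn
  have h1 : z * n * c * (z * n)⁻¹ ∈ Z := (Subgroup.mem_normalizer_iff.1 hn' c).1 hc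
  have h2 : z * n * c * (z * n)⁻¹ * c⁻¹ ∈ Z ⊓ O := ⟨Z.mul_mem h1 (Z.inv_mem hc), hz c hc (z * n)⟩
  have h3 : Z ⊓ O = ⊥ := by
    obtain ⟨k, hk⟩ := IsPGroup.iff_card.1 hZ
    refine Subgroup.inf_eq_bot_of_coprime ?_
    rw [hk]
    exact hOcop.symm.pow_left k
  rw [h3, Subgroup.mem_bot, mul_inv_eq_one, mul_inv_eq_iff_eq_mul] at h2
  exact h2.symm

end CfsgLib.ZStarCenter
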