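import Cfsg.Agent.Lib.ZStar.CenterCentral
import Cfsg.Agent.Lib.QuasiDihedralClasses
import Cfsg.Agent.Lib.WreathedSubgroups
import Cfsg.Prelude.Def_TwoFusion

/-!
# An isolated involution in a group with quasi-dihedral or wreathed Sylow 2-subgroups
-/

set_option autoImplicit false
set_option maxHeartbeats 400000

namespace CfsgLib.ZStarCenter

open Cfsg

universe u

/-- The centre is cyclic and a non-central involution is conjugate to its product with the
central involution. -/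
def Shape (S : Type*) [Group S] : Prop :=
  IsCyclic ↥(Subgroup.center S) ∧ ∀ z ∈ Subgroup.center S, orderOf z = 2 →
    ∀ w : S, w * w = 1 → w ∉ Subgroup.center S → ∃ s : S, s * w * s⁻¹ = w * z

theorem shape_of_quasiDihedral {S : Type*} [Group S] [Finite S] (hS : Cfsg.IsQuasiDihedral S) : Shape S := by
  classical
  obtain ⟨n, hn, hcard, d, hd⟩ := CfsgLib.QD.exists_data hS
  refine ⟨?_, fun z hz hzo w hw hwc => ?_⟩
  · rw [CfsgLib.QD.center_eq_zpowers d]; infer_instance
  have hze : z = d.z := by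
    rw [CfsgLib.QD.center_eq_zpowers d, mem_zpowers_iff_mem_range_orderOf, CfsgLib.QD.orderOf_z d] at hz
    simp only [Finset.mem_image, Finset.mem_range] at hz
    obtain ⟨i, hi, rfl⟩ := hz
    interval_cases i
    · simp at hzo
    · exact pow_one _
  subst hze
  have hwo : orderOf w = 2 :=
    CfsgLib.Involutions.orderOf_eq_two_iff'.mpr ⟨hw, fun h => hwc (h ▸ one_mem _)⟩
  rcases CfsgLib.QD.involution_cases d hwo with rfl | ⟨j, rfl⟩
  · exact absurd (CfsgLib.QD.z_central d) hwc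
  · have hc : IsConj (d.x ^ (2 * j) * d.y) (d.x ^ (2 * j + 2 * (2 * (d.M : ℤ))) * d.y) :=
      CfsgLib.QD.isConj_shift d _ _
    obtain ⟨s, hs⟩ := isConj_iff.mp hc
    refine ⟨s, hs.trans ?_⟩
    rw [Subgroup.mem_center_iff.mp (CfsgLib.QD.z_central d) _, CfsgLib.QD.Data.z, ← mul_assoc (d.x ^ (4 * (d.M : ℤ))), ← zpow_add]
    congr 2
    ring

theorem shape_of_wreathed {S : Type*} [Group S] [Finite S] (hS : Cfsg.IsWreathed S) : Shape S := by
  obtain ⟨n, hn, hcard, d, hd⟩ := CfsgLib.Wr.exists_data hS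
  have hnot : d.u d.h 0 ∉ Subgroup.center S ∧ d.u 0 d.h ∉ Subgroup.center S := by
    have := d.h2
    constructor <;> rw [CfsgLib.Wr.u_central_iff] <;> intro h
    · rw [zero_sub, dvd_neg] at h
      have := Int.le_of_dvd (by omega) h; omega
    · rw [sub_zero] at h
      have := Int.le_of_dvd (by omega) h; omega
  refine ⟨?_, fun z hz hzo w hw hwc => ?_⟩
  · rw [CfsgLib.Wr.center_eq d]; infer_instance
  obtain ⟨hzz, hz1⟩ := CfsgLib.Involutions.orderOf_eq_two_iff'.mp hzo
  have hze : z = d.w := by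
    obtain ⟨i, j, rfl | rfl⟩ := CfsgLib.Wr.cases_elem d z
    · rcases CfsgLib.Wr.u_involution_cases d hzz with e | e | e | e
      · exact absurd e hz1
      · exact absurd (e ▸ hz) hnot.1
      · exact absurd (e ▸ hz) hnot.2
      · exact e
    · exact absurd hz (CfsgLib.Wr.v_not_central d i j)
  subst hze
  obtain ⟨i, j, rfl | rfl⟩ := CfsgLib.Wr.cases_elem d w
  · rcases CfsgLib.Wr.u_involution_cases d hw with e | e | e | e
    · exact absurd (e ▸ one_mem _) hwc
    · refine ⟨d.v 0 0, ?_⟩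
      rw [e, CfsgLib.Wr.conj_u_by_v, CfsgLib.Wr.Data.w, CfsgLib.Wr.u_mul_u, CfsgLib.Wr.u_eq_iff]
      exact ⟨⟨1, by ring⟩, ⟨0, by ring⟩⟩
    · refine ⟨d.v 0 0, ?_⟩
      rw [e, CfsgLib.Wr.conj_u_by_v, CfsgLib.Wr.Data.w, CfsgLib.Wr.u_mul_u, CfsgLib.Wr.u_eq_iff]
      exact ⟨⟨0, by ring⟩, ⟨1, by ring⟩⟩
    · exact absurd (e ▸ hz) hwc
  · refine ⟨d.u d.h 0, ?_⟩
    rw [CfsgLib.Wr.conj_v_by_u, CfsgLib.Wr.Data.w, CfsgLib.Wr.v_mul_u, CfsgLib.Wr.v_eq_iff]
    exact ⟨⟨0, by ring⟩, ⟨1, by ring⟩⟩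

variable {G : Type u} [Group G] [Finite G]

theorem isolated_central (S : Sylow 2 G) {z : G} (hzS : z ∈ S) (hz : IsIsolatedInvolution z) {s : G}
    (hs : s ∈ S) : s * z * s⁻¹ = z := by
  have hodd := CfsgLib.ZStar.odd_orderOf_mul_conj hz.1 hz.2 s
  have hmem : z * (s * z * s⁻¹) ∈ (S : Subgroup G) :=
    (S : Subgroup G).mul_mem hzS ((S : Subgroup G).mul_mem ((S : Subgroup G).mul_mem hs hzS)
      ((S : Subgroup G).inv_mem hs))
  obtain ⟨k, hk⟩ := IsPGroup.iff_orderOf.1 S.2 ⟨_, hmem⟩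
  rw [Subgroup.orderOf_mk] at hk
  rw [hk] at hodd
  rcases k with _ | k
  · have h1 : z * (s * z * s⁻¹) = 1 := orderOf_eq_one_iff.1 (by simpa using hk)
    rw [← inv_eq_of_mul_eq_one_right h1, CfsgLib.Involutions.inv_eq_self_of_orderOf hz.1]
  · exact absurd hodd (by simp [pow_succ, parity_simps])

/-- In the presence of a central involution of the whole group, every element of a cyclic Sylow centre
is weakly closed, provided every non-central involution of the Sylow is conjugate to its product with it. -/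
theorem weakly_closed_center (S : Sylow 2 G) {z : G} (hzc : z ∈ Subgroup.center G) (hzo : orderOf z = 2)
    (hzS : z ∈ S) (hcyc : ∀ a ∈ (S : Subgroup G), (∀ s ∈ (S : Subgroup G), s * a * s⁻¹ = a) →
      ∀ b ∈ (S : Subgroup G), (∀ s ∈ (S : Subgroup G), s * b * s⁻¹ = b) → orderOf b ∣ orderOf a → b ∈ Subgroup.zpowers a)
    (hsh : ∀ w ∈ (S : Subgroup G), w * w = 1 → (¬ ∀ s ∈ (S : Subgroup G), s * w * s⁻¹ = w) →
      ∃ s ∈ (S : Subgroup G), s * w * s⁻¹ = w * z) :
    ∀ (k : ℕ) (c : G), orderOf c ∣ 2 ^ k → c ∈ S → (∀ s ∈ (S : Subgroup G), s * c * s⁻¹ = c) →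
      ∀ g : G, g * c * g⁻¹ ∈ S → g * c * g⁻¹ = c := by
  intro k
  induction k with
  | zero =>
    intro c hc _ _ g _
    rw [pow_zero, Nat.dvd_one, orderOf_eq_one_iff] at hc
    simp [hc]
  | succ k ih =>
    intro c hc hcS hcc g hg
    set y := g * c * g⁻¹ with hy
    have hcen : ∀ s ∈ (S : Subgroup G), Commute s c := fun s hs => mul_inv_eq_iff_eq_mul.1 (hcc s hs)
    have hcase : ∀ g' : G, g' * c * g'⁻¹ ∈ S → (∀ s ∈ (S : Subgroup G), s * (g' * c * g'⁻¹) * s⁻¹ = g' * c * g'⁻¹) →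
        g' * c * g'⁻¹ = c := fun g' h1 h2 =>
      eq_of_conj_central S hcS hcc (hcyc c hcS hcc _ h1 h2
        (dvd_of_eq (by rw [CfsgLib.Involutions.orderOf_conj])))
    by_cases hyc : ∀ s ∈ (S : Subgroup G), s * y * s⁻¹ = y
    · exact hcase g hg hyc
    exfalso
    have h2 : g * (c * c) * g⁻¹ = c * c := by
      refine ih (c * c) ?_ ((S : Subgroup G).mul_mem hcS hcS) (fun s hs => ?_) g ?_
      · refine orderOf_dvd_of_pow_eq_one ?_
        rw [← pow_two, ← pow_mul, mul_comm 2, ← pow_succ]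
        exact orderOf_dvd_iff_pow_eq_one.1 hc
      · rw [← conj_mul, hcc s hs]
      · rw [← conj_mul]; exact (S : Subgroup G).mul_mem hg hg
    have hyw : Commute y c := hcen y hg
    set w := y * c⁻¹ with hw
    have hw2 : w * w = 1 := by
      rw [hw, ← pow_two, hyw.inv_right.mul_pow, pow_two, pow_two, hy, conj_mul, h2]
      group
    have hwS : w ∈ (S : Subgroup G) := (S : Subgroup G).mul_mem hg ((S : Subgroup G).inv_mem hcS)
    have hwc : ¬ ∀ s ∈ (S : Subgroup G), s * w * s⁻¹ = w := fun h => hyc fun s hs => by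
      have := h s hs
      rw [hw, ← conj_mul, show s * c⁻¹ * s⁻¹ = (s * c * s⁻¹)⁻¹ by group, hcc s hs] at this
      exact mul_right_cancel this
    obtain ⟨s, hs, hsw⟩ := hsh w hwS hw2 hwc
    have hsy : s * y * s⁻¹ = y * z := by
      have e : y = w * c := by rw [hw]; group
      rw [e, ← conj_mul, hsw, hcc s hs, mul_assoc, ← Subgroup.mem_center_iff.1 hzc c, ← mul_assoc]
    have hzg : g⁻¹ * z * g = z := by
      rw [Subgroup.mem_center_iff.1 hzc g⁻¹, mul_assoc, inv_mul_cancel, mul_one]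
    have hcz : g⁻¹ * s * g * c * (g⁻¹ * s * g)⁻¹ = c * z := by
      rw [show g⁻¹ * s * g * c * (g⁻¹ * s * g)⁻¹ = g⁻¹ * (s * (g * c * g⁻¹) * s⁻¹) * g by group, ← hy, hsy,
        hy, show g⁻¹ * (g * c * g⁻¹ * z) * g = c * (g⁻¹ * z * g) by group, hzg]
    have := hcase (g⁻¹ * s * g) (by rw [hcz]; exact (S : Subgroup G).mul_mem hcS hzS) (fun t ht => by
      rw [hcz, ← conj_mul, hcc t ht, Subgroup.mem_center_iff.1 hzc t, mul_inv_cancel_right])
    rw [hcz] at this
    have hz1 : z = 1 := by simpa using this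
    rw [hz1, orderOf_one] at hzo
    omega

/-- An isolated involution forces the centre of a Sylow 2-subgroup into the `Z*`-subgroup. -/
theorem normal_sup_center (S : Sylow 2 G) (hS : Shape ↥(S : Subgroup G)) {z : G} (hzS : z ∈ S)
    (hz : IsIsolatedInvolution z) :
    (pPrimeCore 2 G ⊔ (Subgroup.center (S : Subgroup G)).map (S : Subgroup G).subtype).Normal := by
  haveI : Fact (Nat.Prime 2) := ⟨Nat.prime_two⟩
  set O := pPrimeCore 2 G with hO
  set π := QuotientGroup.mk' O with hπ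
  let T : Sylow 2 (G ⧸ O) := S.mapSurjective (f := π) (QuotientGroup.mk'_surjective O)
  have hinj : ∀ a ∈ (S : Subgroup G), π a = 1 → a = 1 := by
    intro a ha h
    rw [hπ, QuotientGroup.mk'_apply, QuotientGroup.eq_one_iff] at h
    obtain ⟨k, hk⟩ := IsPGroup.iff_orderOf.1 S.2 ⟨a, ha⟩
    rw [Subgroup.orderOf_mk] at hk
    have hd : orderOf a ∣ Nat.card O := Subgroup.orderOf_dvd_natCard O h
    rw [← orderOf_eq_one_iff]
    exact Nat.eq_one_of_dvd_coprimes ((CfsgLib.card_pPrimeCore_coprime 2).symm.pow_left k)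
      (dvd_of_eq hk) hd
  have hinj' : ∀ a ∈ (S : Subgroup G), ∀ b ∈ (S : Subgroup G), π a = π b → a = b := fun a ha b hb h =>
    mul_inv_eq_one.1 (hinj _ ((S : Subgroup G).mul_mem ha ((S : Subgroup G).inv_mem hb))
      (by rw [map_mul, map_inv, h, mul_inv_cancel]))
  have hmemT : ∀ q, q ∈ T → ∃ a ∈ (S : Subgroup G), π a = q := fun q hq => hq
  have hTmem : ∀ a ∈ (S : Subgroup G), π a ∈ T := fun a ha => ⟨a, ha, rfl⟩
  -- centres correspond
  have hcorr : ∀ (a : G) (ha : a ∈ (S : Subgroup G)), ((∀ t ∈ (T : Subgroup (G ⧸ O)), t * π a * t⁻¹ = π a) ↔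
      ∀ s : (S : Subgroup G), s * ⟨a, ha⟩ = ⟨a, ha⟩ * s) := by
    intro a ha
    constructor
    · intro h s
      refine Subtype.ext ?_
      have := h _ (hTmem _ s.2)
      rw [mul_inv_eq_iff_eq_mul, ← map_mul, ← map_mul] at this
      exact hinj' _ ((S : Subgroup G).mul_mem s.2 ha) _ ((S : Subgroup G).mul_mem ha s.2) this
    · intro h t ht
      obtain ⟨s, hs, rfl⟩ := hmemT t ht
      rw [mul_inv_eq_iff_eq_mul, ← map_mul, ← map_mul]
      exact congrArg π (congrArg Subtype.val (h ⟨s, hs⟩))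
  have hzcS : (⟨z, hzS⟩ : (S : Subgroup G)) ∈ Subgroup.center ↥(S : Subgroup G) :=
    Subgroup.mem_center_iff.2 fun s => Subtype.ext (mul_inv_eq_iff_eq_mul.1 (isolated_central S hzS hz s.2))
  have hzc : π z ∈ Subgroup.center (G ⧸ O) := by
    rw [Subgroup.mem_center_iff]
    intro q
    obtain ⟨g, rfl⟩ := QuotientGroup.mk'_surjective O q
    have h := CfsgLib.ZStar.inZStar hz.1 hz.2 g
    rw [← hO, ← QuotientGroup.eq_one_iff, ← QuotientGroup.mk'_apply] at h
    rw [← map_mul, ← map_mul, ← mul_inv_eq_one, ← map_inv, ← map_mul]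
    simpa [hπ, mul_assoc] using h
  have hzo : orderOf (π z) = 2 := by
    refine CfsgLib.Involutions.orderOf_eq_two_iff'.2 ⟨?_, fun h => ?_⟩
    · rw [← map_mul, (CfsgLib.Involutions.orderOf_eq_two_iff'.1 hz.1).1, map_one]
    · exact (CfsgLib.Involutions.orderOf_eq_two_iff'.1 hz.1).2 (hinj z hzS h)
  refine normal_sup _ fun c hc => ?_
  obtain ⟨⟨c, hcS⟩, hcc, rfl⟩ := hc
  have hcT : ∀ t ∈ (T : Subgroup (G ⧸ O)), t * π c * t⁻¹ = π c :=
    (hcorr c hcS).2 (Subgroup.mem_center_iff.1 hcc)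
  have hwk : ∀ (i : ℕ) (q : G ⧸ O), q * π c ^ i * q⁻¹ ∈ T → q * π c ^ i * q⁻¹ = π c ^ i := by
    intro i q hq
    obtain ⟨k, hk⟩ := IsPGroup.iff_orderOf.1 T.2 ⟨π c ^ i, pow_mem (hTmem c hcS) i⟩
    rw [Subgroup.orderOf_mk] at hk
    refine weakly_closed_center T hzc hzo (hTmem z hzS) ?_ ?_ k _ (dvd_of_eq hk)
      (pow_mem (hTmem c hcS) i) (fun t ht => by rw [← conj_pow, hcT t ht]) q hq
    · intro a' ha' hac b' hb' hbc hd
      obtain ⟨a, ha, rfl⟩ := hmemT a' ha'
      obtain ⟨b, hb, rfl⟩ := hmemT b' hb'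
      haveI := hS.1
      have ha2 : (⟨a, ha⟩ : (S : Subgroup G)) ∈ Subgroup.center _ :=
        Subgroup.mem_center_iff.2 ((hcorr a ha).1 hac)
      have hb2 : (⟨b, hb⟩ : (S : Subgroup G)) ∈ Subgroup.center _ :=
        Subgroup.mem_center_iff.2 ((hcorr b hb).1 hbc)
      have hord : ∀ x ∈ (S : Subgroup G), orderOf (π x) = orderOf x := fun x hx => by
        refine (orderOf_eq_orderOf_iff.2 fun n => ?_)
        exact ⟨fun h => hinj _ ((S : Subgroup G).pow_mem hx n) (by rw [map_pow, h]),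
          fun h => by rw [← map_pow, h, map_one]⟩
      rw [hord a ha, hord b hb] at hd
      set A : ↥(Subgroup.center ↥(S : Subgroup G)) := ⟨_, ha2⟩
      set B : ↥(Subgroup.center ↥(S : Subgroup G)) := ⟨_, hb2⟩
      have hAB : orderOf B ∣ orderOf A := by
        rw [← orderOf_submonoid A, ← orderOf_submonoid B, ← orderOf_submonoid (A : ↥(S : Subgroup G)),
          ← orderOf_submonoid (B : ↥(S : Subgroup G))]
        exact hd
      have hle : Subgroup.zpowers B ≤ Subgroup.zpowers A := by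
        set K := Subgroup.zpowers A ⊔ Subgroup.zpowers B with hK
        have hcm : ∀ x y : ↥(Subgroup.center ↥(S : Subgroup G)), Commute x y := fun x y =>
          Subtype.ext (Subgroup.mem_center_iff.1 y.2 (x : ↥(S : Subgroup G)))
        let M : Subgroup ↥(Subgroup.center ↥(S : Subgroup G)) :=
          { carrier := {x | x ^ orderOf A = 1}
            one_mem' := one_pow _
            mul_mem' := fun {x y} hx hy => by
              show (x * y) ^ orderOf A = 1
              rw [(hcm x y).mul_pow, hx, hy, one_mul]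
            inv_mem' := fun {x} hx => by
              show x⁻¹ ^ orderOf A = 1
              rw [inv_pow, hx, inv_one] }
        have hker : K ≤ M :=
          sup_le (Subgroup.zpowers_le.2 (pow_orderOf_eq_one A))
            (Subgroup.zpowers_le.2 (orderOf_dvd_iff_pow_eq_one.1 hAB))
        haveI : IsCyclic ↥K := Subgroup.isCyclic K
        have hd : Nat.card K ∣ orderOf A := by
          rw [← IsCyclic.exponent_eq_card]
          exact Monoid.exponent_dvd_of_forall_pow_eq_one fun x => Subtype.ext (hker x.2)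
        have he : Subgroup.zpowers A = K := Subgroup.eq_of_le_of_card_ge le_sup_left
          (by rw [Nat.card_zpowers]; exact Nat.le_of_dvd (orderOf_pos A) hd)
        rw [he]
        exact le_sup_right
      obtain ⟨m, hm⟩ := Subgroup.mem_zpowers_iff.1 (hle (Subgroup.mem_zpowers B))
      refine Subgroup.mem_zpowers_iff.2 ⟨m, ?_⟩
      rw [← map_zpow]
      exact congrArg π (congrArg (fun x : ↥(Subgroup.center ↥(S : Subgroup G)) => ((x : ↥(S : Subgroup G)) : G)) hm)
    · intro w' hw' hww hwn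
      obtain ⟨w, hw, rfl⟩ := hmemT w' hw'
      obtain ⟨s, hs⟩ := hS.2 ⟨z, hzS⟩ hzcS (by rw [Subgroup.orderOf_mk]; exact hz.1) ⟨w, hw⟩
        (Subtype.ext (hinj _ ((S : Subgroup G).mul_mem hw hw) ((map_mul π w w).trans hww)))
        (fun h => hwn ((hcorr w hw).2 (Subgroup.mem_center_iff.1 h)))
      refine ⟨π s, hTmem _ s.2, ?_⟩
      rw [← map_mul, ← map_inv, ← map_mul, ← map_mul]
      exact congrArg π (congrArg Subtype.val hs)
  intro g
  have h := CfsgLib.ZStar.inZStar_of_powers _ (G ⧸ O) rfl T (π c) (hTmem c hcS) hwk (π g)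
  rw [CfsgLib.pPrimeCore_quotient_eq_bot, Subgroup.mem_bot, ← map_mul, ← map_inv, ← map_mul, ← map_inv,
    ← map_mul, hπ, QuotientGroup.mk'_apply, QuotientGroup.eq_one_iff] at h
  exact h

end CfsgLib.ZStarCenter
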