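import Cfsg.Agent.Lib.ZStar.QLocal
import Cfsg.Agent.Lib.PComplement
import Cfsg.Agent.Lib.CharTheory.TI

/-! The Brauer–Suzuki theorem for a quaternion Sylow 2-subgroup of order 8. -/

set_option autoImplicit false
set_option maxHeartbeats 400000
set_option linter.unusedSectionVars false
set_option linter.style.haveILetI false

namespace CfsgLib.ZStar

open Cfsg CfsgLib.Blocks CfsgLib.CharTheory
open scoped ComplexConjugate

universe u

variable {G : Type u} [Group G]

/-- The inner product of two generalized characters through their coefficients. -/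
theorem classInner_eq_coeff [Fintype G] {θ θ' : G → ℂ} (h : IsClassFunction G θ) {a b : IrrCharacter G → ℤ}
    (ha : ∀ φ : IrrCharacter G, classInner θ (φ : G → ℂ) = a φ)
    (hb : ∀ φ : IrrCharacter G, classInner θ' (φ : G → ℂ) = b φ) :
    classInner θ θ' = ((∑ φ, a φ * b φ : ℤ) : ℂ) := by
  rw [classInner_eq_sum_irr h]
  push_cast
  refine Finset.sum_congr rfl fun φ _ => ?_
  rw [ha, ← classInner_comm, hb, map_intCast]

/-- The combinatorics of two virtual characters of norm `3` and one of norm `4`. -/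
theorem coeff_structure {α ι : Type*} [Fintype α] [DecidableEq α] [Fintype ι] [DecidableEq ι]
    (o : α) (d : α → ℤ) (hd : ∀ x, 0 < d x) (e : α → ℤ) (a : ι → α → ℤ)
    (heo : e o = 1) (hao : ∀ c, a c o = 1) (he : ∑ x, e x * e x = 4)
    (hea : ∀ c, ∑ x, e x * a c x = 2) (haa : ∀ c, ∑ x, a c x * a c x = 3)
    (hab : ∀ c c', c ≠ c' → ∑ x, a c x * a c' x = 1)
    (hdeg : ∀ c, ∑ x, a c x * d x = 0) (m : ι → ℤ) (c : ι) :
    ∃ q z : α, q ≠ o ∧ z ≠ o ∧ q ≠ z ∧ (a c q = 1 ∨ a c q = -1) ∧ (a c z = 1 ∨ a c z = -1) ∧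
      (∀ x, x ≠ o → x ≠ q → x ≠ z → a c x = 0) ∧
      -e q + ∑ k, m k * a k q = a c q * (m c - 1) ∧
      -e z + ∑ k, m k * a k z = a c z * m c := by
  have split : ∀ f : α → ℤ, ∑ x, f x = f o + ∑ x ∈ Finset.univ.erase o, f x := fun f =>
    (Finset.add_sum_erase _ _ (Finset.mem_univ o)).symm
  have hsupp : ∀ k, ∃ q z, q ≠ o ∧ z ≠ o ∧ q ≠ z ∧ (a k q = 1 ∨ a k q = -1) ∧
      (a k z = 1 ∨ a k z = -1) ∧ (∀ x, x ≠ o → x ≠ q → x ≠ z → a k x = 0) ∧
      e q = a k q ∧ e z = 0 := by
    intro k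
    set s := (Finset.univ.erase o).filter fun x => a k x ≠ 0 with hs
    have hmem : ∀ x ∈ s, x ≠ o ∧ a k x ≠ 0 := fun x hx =>
      ⟨(Finset.mem_erase.1 (Finset.mem_filter.1 hx).1).1, (Finset.mem_filter.1 hx).2⟩
    have hred : ∀ f : α → ℤ, (∀ x, a k x = 0 → f x = 0) → ∑ x, f x = f o + ∑ x ∈ s, f x := by
      intro f hf
      rw [split, hs, Finset.sum_filter_of_ne (p := fun x => a k x ≠ 0) fun x _ hne h0 => hne (hf x h0)]
    have h2 : ∑ x ∈ s, a k x * a k x = 2 := by
      have := haa k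
      rw [hred _ (fun x hx => by rw [hx, mul_zero]), hao] at this
      linarith
    have hpm : ∀ x ∈ s, a k x = 1 ∨ a k x = -1 := by
      intro x hx
      have h3 : a k x * a k x ≤ 2 := h2 ▸ Finset.single_le_sum (fun i _ => mul_self_nonneg _) hx
      have := (hmem x hx).2
      have : -2 < a k x ∧ a k x < 2 := ⟨by nlinarith, by nlinarith⟩
      omega
    have hcard : s.card = 2 := by
      rw [Finset.sum_congr rfl fun x hx => show a k x * a k x = 1 by
        rcases hpm x hx with h | h <;> rw [h] <;> norm_num, Finset.sum_const, nsmul_one] at h2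
      exact_mod_cast h2
    obtain ⟨q, z, hqz, hqzs⟩ := Finset.card_eq_two.1 hcard
    have h1 := hea k
    rw [hred _ (fun x hx => by rw [hx, mul_zero]), hao, heo, hqzs, Finset.sum_pair hqz] at h1
    have hsmall : ∀ x, x ≠ o → -2 < e x ∧ e x < 2 := by
      intro x hx
      have h3 := he
      rw [split, heo] at h3
      have h4 : e x * e x ≤ 3 := by
        have := Finset.single_le_sum (f := fun y => e y * e y) (fun i _ => mul_self_nonneg _)
          (Finset.mem_erase.2 ⟨hx, Finset.mem_univ x⟩)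
        linarith
      exact ⟨by nlinarith, by nlinarith⟩
    have hq : q ∈ s := by rw [hqzs]; simp
    have hz : z ∈ s := by rw [hqzs]; simp
    have hrest : ∀ x, x ≠ o → x ≠ q → x ≠ z → a k x = 0 := by
      intro x hxo hxq hxz
      by_contra h
      have : x ∈ s := Finset.mem_filter.2 ⟨Finset.mem_erase.2 ⟨hxo, Finset.mem_univ x⟩, h⟩
      rw [hqzs] at this
      simp [hxq, hxz] at this
    obtain ⟨b1, b2⟩ := hsmall q (hmem q hq).1
    obtain ⟨b3, b4⟩ := hsmall z (hmem z hz).1
    by_cases hez : e z = 0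
    · refine ⟨q, z, (hmem q hq).1, (hmem z hz).1, hqz, hpm q hq, hpm z hz, hrest, ?_, hez⟩
      rw [hez] at h1
      rcases hpm q hq with h | h <;> rw [h] at h1 ⊢ <;> linarith
    · have heq : e q = 0 ∧ e z = a k z := by
        rcases hpm q hq with h | h <;> rcases hpm z hz with h' | h' <;> rw [h, h'] at h1 <;> omega
      exact ⟨z, q, (hmem z hz).1, (hmem q hq).1, hqz.symm, hpm z hz, hpm q hq,
        fun x a b c => hrest x a c b, heq.2, heq.1⟩
  choose Q Z hQo hZo hQZ hQv hZv hrest hQe hZe using hsupp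
  have key : ∀ k k', k ≠ k' → a k' (Q k) = 0 ∧ a k' (Z k) = 0 := by
    intro k k' hne
    have hpair : ∀ f : α → ℤ, (∀ x, a k x = 0 → f x = 0) →
        ∑ x, f x = f o + (f (Q k) + f (Z k)) := by
      intro f hf
      rw [split, ← Finset.sum_pair (hQZ k)]
      refine congrArg _ (Finset.sum_subset (fun x hx => ?_) fun x hx hx' => ?_).symm
      · simp at hx; rcases hx with rfl | rfl <;> simp [hQo, hZo]
      · simp at hx'
        exact hf x (hrest k x (Finset.mem_erase.1 hx).1 hx'.1 hx'.2)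
    have h := hab k k' hne
    rw [hpair _ (fun x hx => by rw [hx, zero_mul]), hao, hao] at h
    have hQQ : Q k' ≠ Q k := by
      intro e'
      have h1 : a k' (Q k) = a k (Q k) := by rw [← hQe k, ← e', hQe k', e']
      have h2 : a k' (Z k) ≠ 0 := fun h0 => by
        rw [h0, h1] at h; rcases hQv k with hv | hv <;> rw [hv] at h <;> norm_num at h
      have h3 : Z k = Z k' := by
        by_contra hne'
        exact h2 (hrest k' _ (hZo k) (fun e => hQZ k (by rw [← e', ← e])) hne')
      have hd1 := hdeg k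
      have hd2 := hdeg k'
      rw [hpair _ (fun x hx => by rw [hx, zero_mul]), hao] at hd1
      have hd2' : ∑ x, a k' x * d x = a k' o * d o + (a k' (Q k) * d (Q k) + a k' (Z k) * d (Z k)) := by
        rw [split, ← Finset.sum_pair (f := fun x => a k' x * d x) (hQZ k)]
        refine congrArg _ (Finset.sum_subset (fun x hx => ?_) fun x hx hx' => ?_).symm
        · simp at hx; rcases hx with rfl | rfl <;> simp [hQo, hZo]
        · simp at hx'
          rw [hrest k' x (Finset.mem_erase.1 hx).1 (e' ▸ hx'.1) (h3 ▸ hx'.2), zero_mul]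
      rw [hd2', hao, h1] at hd2
      have hz : a k' (Z k) * d (Z k) = a k (Z k) * d (Z k) := by linarith
      have hz' := mul_right_cancel₀ (hd (Z k)).ne' hz
      rw [h1, hz'] at h
      rcases hQv k with hv | hv <;> rcases hZv k with hw | hw <;> rw [hv, hw] at h <;> norm_num at h
    have h1 : a k' (Q k) = 0 := by
      refine hrest k' _ (hQo k) hQQ.symm fun e' => ?_
      have := hZe k'
      rw [← e', hQe k] at this
      rcases hQv k with hv | hv <;> rw [hv] at this <;> norm_num at this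
    refine ⟨h1, ?_⟩
    rw [h1] at h
    rcases hZv k with hw | hw <;> rw [hw] at h <;> linarith
  refine ⟨Q c, Z c, hQo c, hZo c, hQZ c, hQv c, hZv c, hrest c, ?_, ?_⟩
  · rw [Finset.sum_eq_single c (fun k _ hne => by rw [(key c k hne.symm).1, mul_zero])
      (fun h => absurd (Finset.mem_univ c) h), hQe c]
    ring
  · rw [Finset.sum_eq_single c (fun k _ hne => by rw [(key c k hne.symm).2, mul_zero])
      (fun h => absurd (Finset.mem_univ c) h), hZe c]
    ring

theorem fixed_of_conj_mul {g q d : G} (hg : Odd (orderOf g)) (hd : d * d = 1)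
    (hgd : Commute g d) (h : g * q * g⁻¹ = q * d) : d = 1 := by
  have hk : ∀ k : ℕ, g ^ k * q * (g ^ k)⁻¹ = q * d ^ k := by
    intro k
    induction k with
    | zero => simp
    | succ k ih =>
      calc g ^ (k + 1) * q * (g ^ (k + 1))⁻¹ = g * (g ^ k * q * (g ^ k)⁻¹) * g⁻¹ := by
            rw [pow_succ']; group
        _ = g * q * d ^ k * g⁻¹ := by rw [ih, mul_assoc g q]
        _ = (g * q * g⁻¹) * (g * d ^ k * g⁻¹) := by group
        _ = q * d ^ (k + 1) := by
          rw [h, (hgd.pow_right k).eq, mul_inv_cancel_right, pow_succ', mul_assoc]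
  have h1 := hk (orderOf g)
  obtain ⟨j, hj⟩ := hg
  rw [pow_orderOf_eq_one, one_mul, inv_one, mul_one, eq_comm, mul_eq_left, hj, pow_succ, pow_mul,
    pow_two, hd, one_pow, one_mul] at h1
  exact h1

/-- Two generators of the isometric image are incompatible with a proper normal closure. -/
theorem order8_false [Fintype G] {u : G} (hu : orderOf u = 2) (hiso : IsIsolated u)
    (hgen : Subgroup.normalClosure ({u} : Set G) = ⊤) (P : Sylow 2 G) (huP : u ∈ P)
    (h8 : Nat.card (P : Subgroup G) = 8)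
    (hun : ∀ x ∈ (P : Subgroup G), x * x = 1 → x = 1 ∨ x = u)
    (hncyc : ¬ IsCyclic (P : Subgroup G)) (hnc : ¬ HasNormalPComplement 2 G) : False := by
  classical
  haveI : Fact (Nat.Prime 2) := ⟨Nat.prime_two⟩
  have huu := sq_eq_one hu
  -- elements of order four
  have f1 : ∀ x ∈ (P : Subgroup G), x ≠ 1 → x ≠ u → x * x = u := by
    intro x hx hx1 hxu
    have hd : orderOf x ∣ 2 ^ 3 := by
      rw [show (2 : ℕ) ^ 3 = 8 from rfl, ← h8]; exact Subgroup.orderOf_dvd_natCard _ hx
    obtain ⟨k, hk, hk'⟩ := (Nat.dvd_prime_pow Nat.prime_two).1 hd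
    have hk3 : k ≠ 3 := fun e => hncyc (isCyclic_of_orderOf_eq_card (⟨x, hx⟩ : (P : Subgroup G))
      (by rw [Subgroup.orderOf_mk, hk', e, h8]; rfl))
    have h4 : (x * x) * (x * x) = 1 := by
      have : x ^ 4 = 1 := orderOf_dvd_iff_pow_eq_one.1
        (hk' ▸ (pow_dvd_pow 2 (by omega : k ≤ 2)).trans (by norm_num))
      rw [← this, pow_succ, pow_succ, pow_succ, pow_one]; simp only [mul_assoc]
    rcases hun _ (mul_mem hx hx) h4 with h | h
    · rcases hun x hx h with h' | h'
      · exact absurd h' hx1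
      · exact absurd h' hxu
    · exact h
  have finv : ∀ x ∈ (P : Subgroup G), x ≠ 1 → x ≠ u → x⁻¹ = x * u := fun x hx a b => by
    rw [inv_eq_iff_mul_eq_one, ← mul_assoc, f1 x hx a b, huu]
  have f2 : ∀ x ∈ (P : Subgroup G), x ≠ 1 → x ≠ u → ∀ y ∈ (P : Subgroup G), Commute x y →
      y = 1 ∨ y = u ∨ y = x ∨ y = x * u := by
    intro x hx hx1 hxu y hy hxy
    by_cases hy1 : y = 1
    · exact Or.inl hy1
    by_cases hyu : y = u
    · exact Or.inr (Or.inl hyu)
    have h : (x * y) * (x * y) = 1 := by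
      rw [show x * y * (x * y) = x * (y * x) * y by group, ← hxy.eq,
        show x * (x * y) * y = x * x * (y * y) by group, f1 x hx hx1 hxu, f1 y hy hy1 hyu, huu]
    rcases hun _ (mul_mem hx hy) h with h' | h'
    · refine Or.inr (Or.inr (Or.inr ?_))
      rw [← finv x hx hx1 hxu]; exact eq_inv_of_mul_eq_one_right h'
    · refine Or.inr (Or.inr (Or.inl ?_))
      rw [← inv_mul_cancel_left x y, h', finv x hx hx1 hxu, mul_assoc, huu, mul_one]
  have huP' : ∀ g : G, g ∈ (P : Subgroup G) → Commute g u := by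
    intro g hg
    have := hiso g
    by_cases hg1 : g = 1
    · rw [hg1]; exact Commute.one_left u
    by_cases hgu : g = u
    · rw [hgu]
    rw [← f1 g hg hg1 hgu]; exact (Commute.refl g).mul_right (Commute.refl g)
  have hsplit : ∀ x ∈ (P : Subgroup G), x ≠ 1 → x ≠ u → ∀ a ∈ (P : Subgroup G),
      ∀ b ∈ (P : Subgroup G), (a ≠ 1 ∧ a ≠ u ∧ a ≠ x ∧ a ≠ x * u) →
      (b ≠ 1 ∧ b ≠ u ∧ b ≠ x ∧ b ≠ x * u) →
      a⁻¹ * b = 1 ∨ a⁻¹ * b = u ∨ a⁻¹ * b = x ∨ a⁻¹ * b = x * u := by
    intro x hx hx1 hxu a ha b hb hna hnb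
    set Z := Subgroup.zpowers (⟨x, hx⟩ : (P : Subgroup G)) with hZdef
    have hxord : orderOf x = 4 := by
      refine (orderOf_eq_prime_pow (p := 2) (n := 1) ?_ ?_).trans (by norm_num)
      · rw [pow_one, pow_two, f1 x hx hx1 hxu]
        intro e; rw [e, orderOf_one] at hu; norm_num at hu
      · rw [show 2 ^ (1 + 1) = 2 + 2 from rfl, pow_add, pow_two, f1 x hx hx1 hxu, huu]
    have hZi : Z.index = 2 := by
      have h := Z.card_mul_index
      rw [show Nat.card Z = 4 by rw [Nat.card_zpowers, Subgroup.orderOf_mk, hxord], h8] at h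
      omega
    have hmem : ∀ w : (P : Subgroup G), w ∈ Z ↔
        ((w : G) = 1 ∨ (w : G) = u ∨ (w : G) = x ∨ (w : G) = x * u) := by
      intro w
      constructor
      · intro hw
        obtain ⟨i, hi⟩ := Subgroup.mem_zpowers_iff.1 hw
        refine f2 x hx hx1 hxu w w.2 ?_
        rw [← hi, SubgroupClass.coe_zpow]
        exact Commute.self_zpow x i
      · have hux : (⟨u, huP⟩ : (P : Subgroup G)) ∈ Z := ⟨2, Subtype.ext (by
          simp [zpow_ofNat, pow_two, f1 x hx hx1 hxu])⟩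
        rintro (e | e | e | e)
        · rw [show w = 1 from Subtype.ext e]; exact one_mem _
        · rwa [show w = ⟨u, huP⟩ from Subtype.ext e]
        · rw [show w = ⟨x, hx⟩ from Subtype.ext e]; exact Subgroup.mem_zpowers _
        · rw [show w = ⟨x, hx⟩ * ⟨u, huP⟩ from Subtype.ext e]
          exact mul_mem (Subgroup.mem_zpowers _) hux
    have hna' : (⟨a, ha⟩ : (P : Subgroup G))⁻¹ ∉ Z := by
      rw [inv_mem_iff, hmem]; push Not; exact hna
    have hnb' : (⟨b, hb⟩ : (P : Subgroup G)) ∉ Z := by rw [hmem]; push Not; exact hnb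
    exact (hmem (⟨a, ha⟩⁻¹ * ⟨b, hb⟩)).1
      ((Subgroup.mul_mem_iff_of_index_two hZi).2 (iff_of_false hna' hnb'))
  -- an automorphism of order three
  obtain ⟨g, hgN, hgodd, hgC⟩ : ∃ g ∈ Subgroup.normalizer ((P : Subgroup G) : Set G),
      Odd (orderOf g) ∧ g ∉ Subgroup.centralizer ((P : Subgroup G) : Set G) := by
    by_contra hno
    push Not at hno
    refine hnc (CfsgLib.hasNormalPComplement_of_frobeniusCond
      (CfsgLib.frobeniusCond_of_sylow P fun Q hQ g hg hgp => ?_))
    have hgodd : Odd (orderOf g) := Nat.coprime_two_right.1 hgp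
    by_cases hQP : Q = P
    · subst hQP; exact hno g hg hgodd
    intro q hq
    have hcu : ∀ (hu' : u ∈ Q), Commute g u := fun hu' => by
      have h1 := (Subgroup.mem_normalizer_iff.1 hg u).1 hu'
      rcases hun _ (hQ h1) (by
        rw [show g * u * g⁻¹ * (g * u * g⁻¹) = g * (u * u) * g⁻¹ by group, huu, mul_one,
          mul_inv_cancel]) with e | e
      · rw [mul_inv_eq_one] at e
        rw [show u = 1 from mul_eq_left.1 e, orderOf_one] at hu
        norm_num at hu
      · exact mul_inv_eq_iff_eq_mul.1 e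
    by_cases hq1 : q = 1
    · rw [hq1, one_mul, mul_one]
    by_cases hqu : q = u
    · subst hqu; exact (hcu hq).eq.symm
    have hqq := f1 q (hQ hq) hq1 hqu
    have huQ : u ∈ Q := hqq ▸ mul_mem hq hq
    have hcase : ∀ w ∈ Q, w = 1 ∨ w = u ∨ w = q ∨ w = q * u := by
      intro w hw
      by_contra hcon
      push Not at hcon
      refine hQP (le_antisymm hQ fun y hy => ?_)
      by_cases hy' : y = 1 ∨ y = u ∨ y = q ∨ y = q * u
      · rcases hy' with rfl | rfl | rfl | rfl
        exacts [one_mem _, huQ, hq, mul_mem hq huQ]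
      push Not at hy'
      have := mul_mem hw (show w⁻¹ * y ∈ Q from by
        rcases hsplit q (hQ hq) hq1 hqu w (hQ hw) y hy hcon hy' with e | e | e | e <;> rw [e]
        exacts [one_mem _, huQ, hq, mul_mem hq huQ])
      rwa [mul_inv_cancel_left] at this
    have h1 := (Subgroup.mem_normalizer_iff.1 hg q).1 hq
    rcases hcase _ h1 with e | e | e | e
    · exact absurd (mul_eq_left.1 (mul_inv_eq_one.1 e)) hq1
    · exfalso
      refine hqu ?_
      calc q = g⁻¹ * (g * q * g⁻¹) * g := by group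
        _ = g⁻¹ * (u * g) := by rw [e, mul_assoc]
        _ = u := by rw [← (hcu huQ).eq, inv_mul_cancel_left]
    · exact (mul_inv_eq_iff_eq_mul.1 e).symm
    · have := fixed_of_conj_mul hgodd huu (hcu huQ) e
      rw [this, orderOf_one] at hu
      norm_num at hu
  have hgu : Commute g u := by
    have h1 := (Subgroup.mem_normalizer_iff.1 hgN u).1 huP
    rcases hun _ h1 (by
      rw [show g * u * g⁻¹ * (g * u * g⁻¹) = g * (u * u) * g⁻¹ by group, huu, mul_one,
        mul_inv_cancel]) with e | e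
    · rw [mul_inv_eq_one] at e
      rw [show u = 1 from mul_eq_left.1 e, orderOf_one] at hu
      norm_num at hu
    · exact mul_inv_eq_iff_eq_mul.1 e
  have hmove : ∀ x ∈ (P : Subgroup G), x ≠ 1 → x ≠ u → ¬ Commute g x ∧
      g * x * g⁻¹ ≠ x * u := by
    intro x hx hx1 hxu
    refine ⟨fun hgx => hgC fun y hy => ?_, fun e => ?_⟩
    swap
    · have := fixed_of_conj_mul hgodd huu hgu e
      rw [this, orderOf_one] at hu
      norm_num at hu
    by_cases hy' : y = 1 ∨ y = u ∨ y = x ∨ y = x * u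
    · rcases hy' with rfl | rfl | rfl | rfl
      · rw [one_mul, mul_one]
      · exact hgu.eq.symm
      · exact hgx.eq.symm
      · exact (hgx.mul_right hgu).eq.symm
    have hy'' := hy'
    push Not at hy''
    have hgy := (Subgroup.mem_normalizer_iff.1 hgN y).1 hy
    have hny : ∀ w, (w = 1 ∨ w = u ∨ w = x ∨ w = x * u) → Commute g w := by
      rintro w (rfl | rfl | rfl | rfl)
      exacts [Commute.one_right g, hgu, hgx, hgx.mul_right hgu]
    have himg : g * y * g⁻¹ ≠ 1 ∧ g * y * g⁻¹ ≠ u ∧ g * y * g⁻¹ ≠ x ∧ g * y * g⁻¹ ≠ x * u := by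
      refine ⟨?_, ?_, ?_, ?_⟩ <;> intro e <;> refine hy' ?_
      all_goals
        have hy2 : y = g⁻¹ * (g * y * g⁻¹) * g := by group
      all_goals
        rw [e, mul_assoc, ← (hny _ (by simp)).eq, inv_mul_cancel_left] at hy2
      all_goals
        simp [hy2]
    have hd := hsplit x hx hx1 hxu y hy _ hgy hy'' himg
    have hdc : Commute g (y⁻¹ * (g * y * g⁻¹)) := hny _ hd
    have hpow : (y⁻¹ * (g * y * g⁻¹)) ^ orderOf g = 1 ∧ (y⁻¹ * (g * y * g⁻¹)) ^ 4 = 1 := by
      refine ⟨?_, ?_⟩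
      · have hk : ∀ k : ℕ, g ^ k * y * (g ^ k)⁻¹ = y * (y⁻¹ * (g * y * g⁻¹)) ^ k := by
          intro k
          induction k with
          | zero => simp
          | succ k ih =>
            calc g ^ (k + 1) * y * (g ^ (k + 1))⁻¹ = g * (g ^ k * y * (g ^ k)⁻¹) * g⁻¹ := by
                  rw [pow_succ']; group
              _ = (g * y * g⁻¹) * (g * (y⁻¹ * (g * y * g⁻¹)) ^ k * g⁻¹) := by rw [ih]; group
              _ = y * (y⁻¹ * (g * y * g⁻¹)) ^ (k + 1) := by
                rw [(hdc.pow_right k).eq, mul_inv_cancel_right, pow_succ', ← mul_assoc y,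
                  mul_inv_cancel_left]
        have := hk (orderOf g)
        rwa [pow_orderOf_eq_one, one_mul, inv_one, mul_one, eq_comm, mul_eq_left] at this
      · rcases hd with e | e | e | e <;> rw [e]
        · simp
        · rw [show (4 : ℕ) = 2 * 2 from rfl, pow_mul, (pow_two u).trans huu, one_pow]
        · rw [show (4 : ℕ) = 2 * 2 from rfl, pow_mul, (pow_two x).trans (f1 x hx hx1 hxu),
            (pow_two u).trans huu]
        · rw [(huP' x hx).mul_pow, show (4 : ℕ) = 2 * 2 from rfl, pow_mul, pow_mul,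
            (pow_two x).trans (f1 x hx hx1 hxu), (pow_two u).trans huu, one_pow, mul_one]
    have hone : y⁻¹ * (g * y * g⁻¹) = 1 := by
      rw [← orderOf_eq_one_iff]
      refine Nat.eq_one_of_dvd_coprimes ?_ (orderOf_dvd_of_pow_eq_one hpow.1)
        (orderOf_dvd_of_pow_eq_one hpow.2)
      exact Nat.Coprime.pow_right 2 (Nat.coprime_two_right.2 hgodd)
    rw [inv_mul_eq_one, eq_comm, mul_inv_eq_iff_eq_mul] at hone
    exact hone.symm
  -- conjugacy of the elements of order four in the centraliser of `u`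
  have hfour : ∀ x ∈ (P : Subgroup G), x ≠ 1 → x ≠ u → ∀ y ∈ (P : Subgroup G), y ≠ 1 → y ≠ u →
      ∃ h, Commute h u ∧ h * x * h⁻¹ = y := by
    intro x hx hx1 hxu y hy hy1 hyu
    have hconjP : ∀ w ∈ (P : Subgroup G), w ≠ 1 → w ≠ u →
        g * w * g⁻¹ ∈ (P : Subgroup G) ∧ g * w * g⁻¹ ≠ 1 ∧ g * w * g⁻¹ ≠ u ∧
        g * w * g⁻¹ ≠ w ∧ g * w * g⁻¹ ≠ w * u := by
      intro w hw hw1 hwu
      refine ⟨(Subgroup.mem_normalizer_iff.1 hgN w).1 hw, ?_, ?_, ?_, (hmove w hw hw1 hwu).2⟩
      · intro e; exact hw1 (mul_eq_left.1 (mul_inv_eq_one.1 e))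
      · intro e
        refine hwu ?_
        calc w = g⁻¹ * (g * w * g⁻¹) * g := by group
          _ = u := by rw [e, mul_assoc, ← hgu.eq, inv_mul_cancel_left]
      · intro e; exact (hmove w hw hw1 hwu).1 (mul_inv_eq_iff_eq_mul.1 e)
    obtain ⟨hx', hx'1, hx'u, hx'x, hx'xu⟩ := hconjP x hx hx1 hxu
    obtain ⟨hx'', hx''1, hx''u, hx''x', hx''x'u⟩ := hconjP _ hx' hx'1 hx'u
    set x' := g * x * g⁻¹ with hx'def
    set x'' := g * x' * g⁻¹ with hx''def
    have hx''x : x'' ≠ x ∧ x'' ≠ x * u := by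
      have he : (g * g) * x * (g * g)⁻¹ = x'' := by rw [hx''def, hx'def]; group
      have hodd2 : Odd (orderOf (g * g)) := by
        rw [← pow_two, (Nat.coprime_two_right.2 hgodd).orderOf_pow]; exact hgodd
      have hne : ¬ Commute (g * g) x := by
        intro hc
        obtain ⟨t, ht⟩ := exists_pow_eq_self_of_coprime
          ((Nat.coprime_two_right.2 hgodd).symm : Nat.Coprime 2 (orderOf g))
        rw [pow_two] at ht
        exact (hmove x hx hx1 hxu).1 (ht ▸ hc.pow_left t)
      refine ⟨fun e => hne (mul_inv_eq_iff_eq_mul.1 (he.trans e)), fun e => ?_⟩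
      have := fixed_of_conj_mul hodd2 huu (hgu.mul_left hgu) (he.trans e)
      rw [this, orderOf_one] at hu
      norm_num at hu
    have hflip : ∀ w ∈ (P : Subgroup G), w ≠ 1 → w ≠ u →
        (∃ h, Commute h u ∧ h * x * h⁻¹ = w) → ∃ h, Commute h u ∧ h * x * h⁻¹ = w * u := by
      rintro w hw hw1 hwu ⟨h, hhu, hhw⟩
      obtain ⟨v, hv, hv'⟩ : ∃ v ∈ (P : Subgroup G), v ≠ 1 ∧ v ≠ u ∧ v ≠ w ∧ v ≠ w * u := by
        obtain ⟨a, b, c, d, e⟩ := hconjP w hw hw1 hwu
        exact ⟨_, a, b, c, d, e⟩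
      have hvw : ¬ Commute w v := fun hc => by
        rcases f2 w hw hw1 hwu v hv hc with e | e | e | e
        exacts [hv'.1 e, hv'.2.1 e, hv'.2.2.1 e, hv'.2.2.2 e]
      have hwv : v * w * v⁻¹ = w * u := by
        have hvwn : v * w ≠ 1 ∧ v * w ≠ u := by
          constructor
          · intro e
            exact hvw (by rw [eq_inv_of_mul_eq_one_left e]; exact (Commute.refl w).inv_right)
          · intro e
            exact hvw (by
              rw [eq_mul_inv_of_mul_eq e]
              exact (huP' w hw).mul_right (Commute.refl w).inv_right)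
        have h1 := f1 _ (mul_mem hv hw) hvwn.1 hvwn.2
        calc v * w * v⁻¹ = (v * w * (v * w)) * (w⁻¹ * (v * v)⁻¹) := by group
          _ = u * (w⁻¹ * u⁻¹) := by rw [h1, f1 v hv hv'.1 hv'.2.1]
          _ = w * u := by
            rw [inv_eq_self hu, finv w hw hw1 hwu, mul_assoc w u u, huu, mul_one]
            exact (huP' w hw).eq.symm
      refine ⟨v * h, (huP' v hv).mul_left hhu, ?_⟩
      rw [← hwv, ← hhw]; group
    have hx'c : ∃ h, Commute h u ∧ h * x * h⁻¹ = x' := ⟨g, hgu, rfl⟩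
    have hx''c : ∃ h, Commute h u ∧ h * x * h⁻¹ = x'' :=
      ⟨g * g, hgu.mul_left hgu, by rw [hx''def, hx'def]; group⟩
    have hxc : ∃ h, Commute h u ∧ h * x * h⁻¹ = x := ⟨1, Commute.one_left u, by simp⟩
    by_cases hyx : y = x
    · rw [hyx]; exact hxc
    by_cases hyxu : y = x * u
    · rw [hyxu]; exact hflip x hx hx1 hxu hxc
    by_cases hyx' : y = x'
    · rw [hyx']; exact hx'c
    by_cases hyx'u : y = x' * u
    · rw [hyx'u]; exact hflip x' hx' hx'1 hx'u hx'c
    have a1 := hsplit x hx hx1 hxu x' hx' y hy ⟨hx'1, hx'u, hx'x, hx'xu⟩ ⟨hy1, hyu, hyx, hyxu⟩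
    have a2 := hsplit x hx hx1 hxu x' hx' x'' hx'' ⟨hx'1, hx'u, hx'x, hx'xu⟩
      ⟨hx''1, hx''u, hx''x.1, hx''x.2⟩
    have key : y = x'' ∨ y = x'' * u := by
      rcases a1 with e | e | e | e
      · exact absurd (inv_mul_eq_one.1 e).symm hyx'
      · exact absurd (inv_mul_eq_iff_eq_mul.1 e) hyx'u
      all_goals
        rcases a2 with e' | e' | e' | e'
      all_goals first
        | exact absurd (inv_mul_eq_one.1 e').symm hx''x'
        | exact absurd (inv_mul_eq_iff_eq_mul.1 e') hx''x'u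
        | skip
      all_goals rw [inv_mul_eq_iff_eq_mul.1 e, inv_mul_eq_iff_eq_mul.1 e']
      all_goals simp [mul_assoc, huu]
    rcases key with e | e <;> rw [e]
    · exact hx''c
    · exact hflip x'' hx'' hx''1 hx''u hx''c
  obtain ⟨x₀, hx₀, hx₀1, hx₀u⟩ : ∃ x ∈ (P : Subgroup G), x ≠ 1 ∧ x ≠ u := by
    by_contra hcon
    push Not at hcon
    refine hncyc ⟨⟨⟨u, huP⟩, fun y => ?_⟩⟩
    by_cases hy : (y : G) = 1
    · exact ⟨0, Subtype.ext (by simp [hy])⟩
    · exact ⟨1, Subtype.ext (by simp [hcon y y.2 hy])⟩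
  -- the centraliser
  set H := Subgroup.centralizer ({u} : Set G) with hHdef
  have hmemH : ∀ h : G, h ∈ H ↔ Commute h u := fun h => Subgroup.mem_centralizer_singleton_iff
  have hPH : (P : Subgroup G) ≤ H := fun w hw => (hmemH w).2 (huP' w hw)
  haveI : Fintype H := Fintype.ofFinite H
  set uH : H := ⟨u, hPH huP⟩ with huH
  set xH : H := ⟨x₀, hPH hx₀⟩ with hxH
  have hinto : ∀ Q : Subgroup H, IsPGroup 2 Q →
      ∃ k : H, ∀ q ∈ Q, ((k * q * k⁻¹ : H) : G) ∈ (P : Subgroup G) := by
    intro Q hQ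
    obtain ⟨T, hT⟩ := hQ.exists_le_sylow
    obtain ⟨k, hk⟩ := MulAction.exists_smul_eq H T (P.subtype hPH)
    refine ⟨k, fun q hq => ?_⟩
    have h1 : k * q * k⁻¹ ∈ P.subtype hPH := by
      rw [← hk]; exact Subgroup.smul_mem_pointwise_smul q (MulAut.conj k) _ (hT hq)
    exact h1
  have hpel : ∀ z : H, (∃ k, orderOf z = 2 ^ k) → IsPGroup 2 (Subgroup.zpowers z) := fun z ⟨k, hk⟩ =>
    IsPGroup.of_card (by rw [Nat.card_zpowers, hk])
  have hCz : ∀ z : H, Commute z xH → (∃ k, orderOf z = 2 ^ k) → z ∈ Subgroup.zpowers xH := by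
    intro z hzx hz
    have hQ : IsPGroup 2 (Subgroup.zpowers z ⊔ Subgroup.zpowers xH : Subgroup H) := by
      refine IsPGroup.to_sup_of_normal_right' (hpel z hz) (hpel xH ⟨2, ?_⟩) ?_
      · rw [Subgroup.orderOf_mk]
        refine orderOf_eq_prime_pow ?_ ?_
        · rw [pow_one, pow_two, f1 x₀ hx₀ hx₀1 hx₀u]
          intro e; rw [e, orderOf_one] at hu; norm_num at hu
        · rw [show 2 ^ (1 + 1) = 2 + 2 from rfl, pow_add, pow_two, f1 x₀ hx₀ hx₀1 hx₀u, huu]
      · rw [Subgroup.zpowers_le, Subgroup.mem_normalizer_iff]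
        intro w
        constructor
        · intro hw
          obtain ⟨i, rfl⟩ := Subgroup.mem_zpowers_iff.1 hw
          rw [(hzx.zpow_right i).eq, mul_inv_cancel_right]; exact hw
        · intro hw
          obtain ⟨i, hi⟩ := Subgroup.mem_zpowers_iff.1 hw
          have : w = xH ^ i := by
            rw [← mul_left_cancel_iff (a := z), (hzx.zpow_right i).eq, ← mul_inv_eq_iff_eq_mul]
            exact hi.symm
          rw [this]; exact zpow_mem (Subgroup.mem_zpowers _) i
    obtain ⟨k, hk⟩ := hinto _ hQ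
    have h1 := hk z (Subgroup.mem_sup_left (Subgroup.mem_zpowers z))
    have h2 := hk xH (Subgroup.mem_sup_right (Subgroup.mem_zpowers xH))
    have hx1' : ((k * xH * k⁻¹ : H) : G) ≠ 1 := fun e =>
      hx₀1 (congrArg Subtype.val (mul_eq_left.1 (mul_inv_eq_one.1 (Subtype.ext e : k * xH * k⁻¹ = 1))))
    have hxu' : ((k * xH * k⁻¹ : H) : G) ≠ u := fun e => hx₀u (by
      have e' : k * xH * k⁻¹ = uH := Subtype.ext e
      have : xH = uH := by
        calc xH = k⁻¹ * (k * xH * k⁻¹) * k := by group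
          _ = k⁻¹ * (uH * k) := by rw [e', mul_assoc]
          _ = uH := by
            rw [show uH * k = k * uH from Subtype.ext ((hmemH _).1 k.2).eq.symm, inv_mul_cancel_left]
      exact congrArg Subtype.val this)
    have hc : Commute ((k * xH * k⁻¹ : H) : G) ((k * z * k⁻¹ : H) : G) :=
      congrArg Subtype.val (hzx.symm.map (MulAut.conj k).toMonoidHom).eq
    have hu' : uH ∈ Subgroup.zpowers xH := ⟨2, Subtype.ext (by
      simp [hxH, huH, zpow_ofNat, pow_two, f1 x₀ hx₀ hx₀1 hx₀u])⟩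
    have hku : ∀ w : H, k⁻¹ * (w * uH) * k = k⁻¹ * w * k * uH := fun w => by
      rw [show k⁻¹ * (w * uH) * k = k⁻¹ * w * (uH * k) by group,
        show uH * k = k * uH from Subtype.ext ((hmemH _).1 k.2).eq.symm]
      group
    rcases f2 _ h2 hx1' hxu' _ h1 hc with e | e | e | e
    · have : z = 1 := mul_eq_left.1 (mul_inv_eq_one.1 (Subtype.ext e : k * z * k⁻¹ = 1))
      rw [this]; exact one_mem _
    · have h3 : k * z * k⁻¹ = 1 * uH := by rw [one_mul]; exact Subtype.ext e
      have : z = uH := by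
        calc z = k⁻¹ * (k * z * k⁻¹) * k := by group
          _ = uH := by rw [h3, hku, mul_one, inv_mul_cancel, one_mul]
      rw [this]; exact hu'
    · have : z = xH := by
        have e' : k * z * k⁻¹ = k * xH * k⁻¹ := Subtype.ext e
        exact mul_left_cancel (mul_right_cancel e')
      rw [this]; exact Subgroup.mem_zpowers _
    · have h3 : k * z * k⁻¹ = k * xH * k⁻¹ * uH := Subtype.ext e
      have : z = xH * uH := by
        calc z = k⁻¹ * (k * z * k⁻¹) * k := by group
          _ = k⁻¹ * (k * xH * k⁻¹) * k * uH := by rw [h3, hku]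
          _ = xH * uH := by group
      rw [this]; exact mul_mem (Subgroup.mem_zpowers _) hu'
  set C := Subgroup.centralizer ({xH} : Set H) with hCdef
  have hxC : xH ∈ C := Subgroup.mem_centralizer_singleton_iff.2 rfl
  set xC : C := ⟨xH, hxC⟩ with hxCdef
  have hxcen : ∀ c : C, Commute xC c := fun c => Subtype.ext
    (Subgroup.mem_centralizer_singleton_iff.1 c.2).symm
  obtain ⟨S⟩ := (inferInstance : Nonempty (Sylow 2 C))
  have hSle : (S : Subgroup C) ≤ Subgroup.zpowers xC := by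
    intro s hs
    obtain ⟨j, hj⟩ := IsPGroup.iff_orderOf.1 S.2 (⟨s, hs⟩ : (S : Subgroup C))
    obtain ⟨i, hi⟩ := Subgroup.mem_zpowers_iff.1 (hCz (s : H)
      (Subgroup.mem_centralizer_singleton_iff.1 s.2) ⟨j, by
        rw [← hj]; exact (Subgroup.orderOf_coe s).trans (Subgroup.orderOf_mk s hs).symm⟩)
    exact ⟨i, Subtype.ext (by simpa using hi)⟩
  have hordx : orderOf xC = 2 ^ 2 := by
    rw [Subgroup.orderOf_mk, Subgroup.orderOf_mk]
    refine orderOf_eq_prime_pow ?_ ?_
    · rw [pow_one, pow_two, f1 x₀ hx₀ hx₀1 hx₀u]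
      intro e; rw [e, orderOf_one] at hu; norm_num at hu
    · rw [show 2 ^ (1 + 1) = 2 + 2 from rfl, pow_add, pow_two, f1 x₀ hx₀ hx₀1 hx₀u, huu]
  have hSeq : (S : Subgroup C) = Subgroup.zpowers xC :=
    (S.3 (IsPGroup.of_card (n := 2) (by rw [Nat.card_zpowers, hordx])) hSle).symm
  have hSc : HasNormalPComplement 2 C := by
    refine CfsgLib.hasNormalPComplement_of_normalizer_le_centralizer S fun c _ => ?_
    rw [hSeq]
    intro w hw
    obtain ⟨i, rfl⟩ := Subgroup.mem_zpowers_iff.1 hw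
    exact ((hxcen c).zpow_left i).eq
  have hq : QHyp uH xH := by
    refine ⟨by rw [Subgroup.orderOf_mk, hu], fun h => Subtype.ext ((hmemH _).1 h.2).eq,
      Subtype.ext (f1 x₀ hx₀ hx₀1 hx₀u), ?_, ?_, ?_, ?_⟩
    · intro z hz
      obtain ⟨k, hk⟩ := hinto _ (hpel z hz)
      have h1 := hk z (Subgroup.mem_zpowers z)
      by_cases e1 : ((k * z * k⁻¹ : H) : G) = 1
      · exact Or.inl (mul_eq_left.1 (mul_inv_eq_one.1 (Subtype.ext e1 : k * z * k⁻¹ = 1)))
      by_cases e2 : ((k * z * k⁻¹ : H) : G) = u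
      · refine Or.inr (Or.inl ?_)
        have e' : k * z * k⁻¹ = uH := Subtype.ext e2
        calc z = k⁻¹ * (k * z * k⁻¹) * k := by group
          _ = k⁻¹ * (uH * k) := by rw [e', mul_assoc]
          _ = uH := by
            rw [show uH * k = k * uH from Subtype.ext ((hmemH _).1 k.2).eq.symm, inv_mul_cancel_left]
      obtain ⟨h, hhu, hhx⟩ := hfour x₀ hx₀ hx₀1 hx₀u _ h1 e1 e2
      refine Or.inr (Or.inr ?_)
      refine (isConj_iff.2 ⟨⟨h, (hmemH h).2 hhu⟩, Subtype.ext hhx⟩ : IsConj xH (k * z * k⁻¹)).trans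
        (isConj_iff.2 ⟨k⁻¹, by group⟩)
    · intro c hcx hc2
      exact ⟨⟨c, Subgroup.mem_centralizer_singleton_iff.2 hcx⟩,
        CfsgLib.mem_pPrimeCore_of_hasNormalPComplement hSc (by
          rw [Subgroup.orderOf_mk]
          exact (Nat.prime_two.coprime_iff_not_dvd.2 hc2).symm), rfl⟩
    · rw [(CfsgLib.pPrimeCore_isComplement'_sylow
        (CfsgLib.isPGroup_quotient_of_hasNormalPComplement hSc) S).symm.index_eq_card, hSeq,
        Nat.card_zpowers, hordx]
      norm_num
    · have hP2 := (P.subtype hPH).card_eq_multiplicity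
      have hc : Nat.card (P.subtype hPH) = 8 := by
        rw [← h8]; exact Nat.card_congr (Subgroup.subgroupOfEquivOfLe hPH).toEquiv
      rw [hc, show (8 : ℕ) = 2 ^ 3 from rfl] at hP2
      exact (Nat.pow_right_injective (le_refl 2) hP2).symm
  obtain ⟨M, hM⟩ := exists_isPModular Nat.prime_two
  obtain ⟨ι, _, _, ⟨c⟩, η, Φ, m, hηg, hΦg, hvan, hηη, hη1, hΦ, hΦd, hF⟩ := q_local hM hq
  -- the trivial intersection set
  set S₀ : Set G := {s : G | s ∈ H ∧ 2 ∣ orderOf s} with hS₀
  have hTI : ∀ k : G, k ∉ H → ∀ s ∈ S₀, k * s * k⁻¹ ∈ S₀ → s = 1 := by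
    rintro k hk s ⟨hs, hs2⟩ ⟨hks, -⟩
    exfalso
    obtain ⟨j, hj⟩ := hs2
    have hj0 : j ≠ 0 := fun e => (orderOf_pos s).ne' (by rw [hj, e, mul_zero])
    have htu : ∀ t : G, t ∈ H → orderOf t = 2 → t = u := by
      intro t ht ht2
      have hT : orderOf (⟨t, ht⟩ : H) = 2 := by rw [Subgroup.orderOf_mk, ht2]
      obtain ⟨k', hk'⟩ := hinto _ (hpel ⟨t, ht⟩ ⟨1, by rw [hT, pow_one]⟩)
      have h1 := hk' _ (Subgroup.mem_zpowers _)
      set tt : H := ⟨t, ht⟩ with htt
      rcases hun _ h1 (congrArg Subtype.val (show k' * tt * k'⁻¹ * (k' * tt * k'⁻¹) = 1 by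
        rw [show k' * tt * k'⁻¹ * (k' * tt * k'⁻¹) = k' * (tt * tt) * k'⁻¹ by group,
          sq_eq_one hT, mul_one, mul_inv_cancel])) with e | e
      · have : tt = 1 := mul_eq_left.1 (mul_inv_eq_one.1 (Subtype.ext e : k' * tt * k'⁻¹ = 1))
        rw [this, orderOf_one] at hT
        norm_num at hT
      · have e' : k' * tt * k'⁻¹ = uH := Subtype.ext e
        have : tt = uH := by
          calc tt = k'⁻¹ * (k' * tt * k'⁻¹) * k' := by group
            _ = k'⁻¹ * (uH * k') := by rw [e', mul_assoc]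
            _ = uH := by
              rw [show uH * k' = k' * uH from Subtype.ext ((hmemH _).1 k'.2).eq.symm,
                inv_mul_cancel_left]
        exact congrArg Subtype.val this
    have ho : orderOf (s ^ j) = 2 := by
      rw [orderOf_pow' s hj0, hj, Nat.gcd_eq_right (dvd_mul_left j 2),
        Nat.mul_div_cancel _ (Nat.pos_of_ne_zero hj0)]
    have h1 := htu _ (H.pow_mem hs j) ho
    have h2 := htu _ (H.pow_mem hks j) (by rw [conj_pow, orderOf_conj, ho])
    rw [conj_pow, h1, mul_inv_eq_iff_eq_mul] at h2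
    exact hk ((hmemH k).2 h2)
  have hclass : ∀ {f : H → ℂ}, IsGeneralizedCharacter H f → IsClassFunction H f := fun h =>
    (isGenChar_iff_coeff_int.1 h).1
  have hsupp : ∀ f : H → ℂ, (∀ h, ¬ 2 ∣ orderOf h → f h = 0) → (∀ x : H, (x : G) ∉ S₀ → f x = 0) ∧
      f 1 = 0 := fun f hf =>
    ⟨fun x hx => hf x fun h2 => hx ⟨x.2, by rwa [Subgroup.orderOf_coe]⟩,
      hf 1 (by rw [orderOf_one]; norm_num)⟩
  have hisom : ∀ {f f' : H → ℂ}, IsGeneralizedCharacter H f' → (∀ h, ¬ 2 ∣ orderOf h → f h = 0) →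
      (∀ h, ¬ 2 ∣ orderOf h → f' h = 0) →
      classInner (indFun H f) (indFun H f') = classInner f f' := fun hf' h0 h0' =>
    classInner_indFun_of_TI H S₀ hTI (hclass hf') (hsupp _ h0).1 (hsupp _ h0').1 (hsupp _ h0').2
  have hindvan : ∀ f : H → ℂ, (∀ h, ¬ 2 ∣ orderOf h → f h = 0) →
      ∀ y : G, ¬ 2 ∣ orderOf y → indFun H f y = 0 := by
    intro f hf y hy
    simp only [indFun]
    rw [Finset.sum_eq_zero fun k _ => ?_, mul_zero]
    by_cases hk : k⁻¹ * y * k ∈ H
    · rw [extendByZero_of_mem _ _ hk]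
      refine hf _ ?_
      rw [Subgroup.orderOf_mk]
      have := orderOf_conj k⁻¹ y
      rw [inv_inv] at this
      rwa [this]
    · exact extendByZero_of_not_mem _ _ hk
  obtain ⟨hcfη, hintη⟩ := isGenChar_iff_coeff_int.1 (isGenChar_indFun H hηg)
  choose e he using fun φ : IrrCharacter G => hintη φ φ.2
  have hΦi := fun k => isGenChar_iff_coeff_int.1 (isGenChar_indFun H (hΦg k))
  choose a ha using fun k (φ : IrrCharacter G) => (hΦi k).2 φ φ.2
  have hone : ∀ f : H → ℂ, classInner (indFun H f) ((oneIrr G : IrrCharacter G) : G → ℂ) =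
      classInner f (fun _ => 1) := fun f =>
    frobenius_reciprocity H f (χ := fun _ : G => (1 : ℂ)) isClassFunction_one
  have hdeg : ∀ χ : IrrCharacter G, ∃ d : ℕ, 0 < d ∧ (χ : G → ℂ) 1 = d := fun χ => irr_degree_pos χ.2
  choose d hd0 hd using hdeg
  have hexp : ∀ k y, indFun H (Φ k) y = ∑ φ : IrrCharacter G, (a k φ : ℂ) * (φ : G → ℂ) y := by
    intro k y
    conv_lhs => rw [eq_sum_irr (hΦi k).1]
    simp [Finset.sum_apply, ha]
  obtain ⟨q, z, hqo, hzo, hqz, hqv, hzv, hrest, hIq, hIz⟩ :=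
    coeff_structure (oneIrr G : IrrCharacter G) (fun φ => (d φ : ℤ))
      (fun φ => by exact_mod_cast hd0 φ) e a
      (by have := he (oneIrr G); rw [hone, hη1] at this; exact_mod_cast this.symm)
      (fun k => by have := ha k (oneIrr G); rw [hone, (hΦ k).2.1] at this; exact_mod_cast this.symm)
      (by
        have h := classInner_eq_coeff hcfη he he
        rw [hisom hηg (fun h hh => (hvan h hh).1) (fun h hh => (hvan h hh).1), hηη] at h
        exact_mod_cast h.symm)
      (fun k => by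
        have h := classInner_eq_coeff hcfη he (ha k)
        rw [hisom (hΦg k) (fun h hh => (hvan h hh).1) (fun h hh => (hvan h hh).2 k),
          (hΦ k).1] at h
        exact_mod_cast h.symm)
      (fun k => by
        have h := classInner_eq_coeff (hΦi k).1 (ha k) (ha k)
        rw [hisom (hΦg k) (fun h hh => (hvan h hh).2 k) (fun h hh => (hvan h hh).2 k),
          (hΦ k).2.2.1] at h
        exact_mod_cast h.symm)
      (fun k k' hne => by
        have h := classInner_eq_coeff (hΦi k).1 (ha k) (ha k')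
        rw [hisom (hΦg k') (fun h hh => (hvan h hh).2 k) (fun h hh => (hvan h hh).2 k'),
          hΦd k k' hne] at h
        exact_mod_cast h.symm)
      (fun k => by
        have h := hindvan (Φ k) (fun h hh => (hvan h hh).2 k) 1 (by rw [orderOf_one]; norm_num)
        rw [hexp] at h
        simp only [hd] at h
        exact_mod_cast h)
      m c
  -- values at `u` from the second main theorem
  have hval : ∀ φ : IrrCharacter G,
      ((-e φ + ∑ k, m k * a k φ : ℤ) : ℂ) =
        ind (principalBlock M G) φ * conj ((φ : G → ℂ) u) := by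
    intro φ
    have hH : IsCentr u H := isCentr_singleton u
    have h1 : ¬ 2 ∣ orderOf (1 : H) := by rw [orderOf_one]; norm_num
    have hsec := sec_eq_overBlocks hM hH ⟨1, by rw [hu, pow_one]⟩
      (principalBlock_isPBlock (M := M) (G := G)) φ h1
    rw [overBlocks_principal hM hH ⟨1, by rw [hu, pow_one]⟩, blockPart_apply, Subgroup.coe_one,
      mul_one] at hsec
    have hlin : ∀ f : H → ℂ, IsGeneralizedCharacter H f →
        classInner (indFun H f) (φ : G → ℂ) = classInner f (fun h : H => (φ : G → ℂ) h) :=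
      fun f _ => frobenius_reciprocity H f (irr_isClassFun φ)
    have hFu : (fun h : H => ∑ ψ ∈ bset (principalBlock M H), (ψ : H → ℂ) uH * (ψ : H → ℂ) h) =
        -η + ∑ k, (m k : ℂ) • Φ k := by
      funext h
      simp only [Pi.add_apply, Pi.neg_apply, Finset.sum_apply, Pi.smul_apply, smul_eq_mul]
      exact hF h
    have hL : ((-e φ + ∑ k, m k * a k φ : ℤ) : ℂ) = classInner
        (fun h : H => ∑ ψ ∈ bset (principalBlock M H), (ψ : H → ℂ) uH * (ψ : H → ℂ) h)
        (fun h : H => (φ : G → ℂ) h) := by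
      rw [hFu, classInner_add_left, classInner_neg_left, classInner_sum_left, ← hlin η hηg, he]
      push_cast
      congr 1
      exact Finset.sum_congr rfl fun k _ => by rw [classInner_smul_left, ← hlin _ (hΦg k), ha]
    rw [hL]
    have hind : conj (ind (principalBlock M G) φ) = ind (principalBlock M G) φ := by
      by_cases hm : φ ∈ principalBlock M G
      · rw [ind_of_mem hm, map_one]
      · rw [ind_of_notMem hm, map_zero]
    rw [← hind, ← map_mul, ← hsec, map_sum]
    simp only [classInner, sec, map_mul, map_sum, map_inv₀, map_natCast, Complex.conj_conj]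
    simp only [Finset.mul_sum, Finset.sum_mul]
    rw [Finset.sum_comm]
    refine Finset.sum_congr rfl fun ψ _ => ?_
    refine Fintype.sum_equiv (Equiv.mulLeft uH) _ _ fun h => ?_
    simp only [Equiv.coe_mulLeft]
    have h2 := central_apply ψ hq.hc h
    have h3 := sq_eq_one hq.hu
    have h4 := central_apply ψ hq.hc uH
    rw [h3] at h4
    rw [h2, irr_one_conj, show (u * ((uH * h : H) : G)) = (h : G) by
      rw [Subgroup.coe_mul, ← mul_assoc, huu, one_mul]]
    have hne := irr_one_ne_zero ψ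
    field_simp at h4 ⊢
  -- the final contradiction
  have hm := (hΦ c).2.2.2
  have hkey : ∀ φ : IrrCharacter G, ∀ V : ℤ, -e φ + ∑ k, m k * a k φ = V → V ≠ 0 →
      (φ : G → ℂ) u = (V : ℂ) := by
    intro φ V hV hne
    have h := hval φ
    rw [hV] at h
    by_cases hmem : φ ∈ principalBlock M G
    · rw [ind_of_mem hmem, one_mul] at h
      rw [← Complex.conj_conj ((φ : G → ℂ) u), ← h, map_intCast]
    · rw [ind_of_notMem hmem, zero_mul] at h
      exact absurd (Int.cast_eq_zero.1 h) hne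
  have hqu := hkey q _ hIq (mul_ne_zero (by rcases hqv with h | h <;> rw [h] <;> norm_num)
    (sub_ne_zero.2 hm.2))
  have hzu := hkey z _ hIz (mul_ne_zero (by rcases hzv with h | h <;> rw [h] <;> norm_num) hm.1)
  have hsum3 : ∀ F : IrrCharacter G → ℂ, ∑ φ, (a c φ : ℂ) * F φ =
      (a c (oneIrr G) : ℂ) * F (oneIrr G) + ((a c q : ℂ) * F q + (a c z : ℂ) * F z) := by
    intro F
    rw [← Finset.add_sum_erase _ _ (Finset.mem_univ (oneIrr G : IrrCharacter G)),
      ← Finset.sum_pair (f := fun φ => (a c φ : ℂ) * F φ) hqz]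
    refine congrArg _ (Finset.sum_subset (fun x hx => ?_) fun x hx hx' => ?_).symm
    · simp at hx; rcases hx with rfl | rfl <;> simp [hqo, hzo]
    · simp at hx'
      rw [hrest x (Finset.mem_erase.1 hx).1 hx'.1 hx'.2, Int.cast_zero, zero_mul]
  have hao : (a c (oneIrr G) : ℂ) = 1 := by rw [← ha, hone, (hΦ c).2.1]
  have hvanc := hindvan (Φ c) fun h hh => (hvan h hh).2 c
  have hE1 := hvanc 1 (by rw [orderOf_one]; norm_num)
  rw [hexp, hsum3 fun φ => (φ : G → ℂ) 1, hao] at hE1
  have hE2 : ∑ φ : IrrCharacter G, (a c φ : ℂ) * ((φ : G → ℂ) u / (φ : G → ℂ) 1 * (φ : G → ℂ) u) = 0 := by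
    have hG0 : (Nat.card G : ℂ) ≠ 0 := Nat.cast_ne_zero.2 Nat.card_pos.ne'
    refine mul_left_cancel₀ hG0 ?_
    rw [mul_zero, Finset.mul_sum, Finset.sum_congr rfl fun φ _ => (by
      rw [show (Nat.card G : ℂ) * ((a c φ : ℂ) * ((φ : G → ℂ) u / (φ : G → ℂ) 1 * (φ : G → ℂ) u)) =
        (a c φ : ℂ) * ((Nat.card G : ℂ) * ((φ : G → ℂ) u / (φ : G → ℂ) 1) * (φ : G → ℂ) u) by ring,
        ← sum_conj_shift, Finset.mul_sum] :
      (Nat.card G : ℂ) * ((a c φ : ℂ) * ((φ : G → ℂ) u / (φ : G → ℂ) 1 * (φ : G → ℂ) u)) =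
        ∑ k : G, (a c φ : ℂ) * (φ : G → ℂ) (k * u * k⁻¹ * u)), Finset.sum_comm]
    refine Finset.sum_eq_zero fun k _ => ?_
    rw [← hexp]
    refine hvanc _ ?_
    have h := odd_orderOf_mul_conj (u := k * u * k⁻¹) (by rw [orderOf_conj, hu]) (isolated_conj hiso k) k⁻¹
    rw [show k⁻¹ * (k * u * k⁻¹) * k⁻¹⁻¹ = u by group] at h
    exact Nat.two_dvd_ne_zero.2 (Nat.odd_iff.1 h)
  rw [hsum3 (fun φ => (φ : G → ℂ) u / (φ : G → ℂ) 1 * (φ : G → ℂ) u), hao, hqu, hzu] at hE2
  have ho : ∀ g, ((oneIrr G : IrrCharacter G) : G → ℂ) g = 1 := fun _ => rfl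
  rw [ho] at hE1
  rw [ho, ho] at hE2
  push_cast at hE2
  set D : ℂ := (a c q : ℂ) * (q : G → ℂ) 1 with hDdef
  have hq2 : (a c q : ℂ) * (a c q : ℂ) = 1 := by rcases hqv with h | h <;> rw [h] <;> norm_num
  have hz2 : (a c z : ℂ) * (a c z : ℂ) = 1 := by rcases hzv with h | h <;> rw [h] <;> norm_num
  have hD : D = (m c : ℂ) - 1 := by
    have hne1 := irr_one_ne_zero q
    have hne2 := irr_one_ne_zero z
    field_simp at hE2
    have h3 : (D - ((m c : ℂ) - 1)) ^ 2 = 0 := by
      have hEz : (a c z : ℂ) * (z : G → ℂ) 1 = -1 - D := by rw [hDdef]; linear_combination hE1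
      linear_combination (-(a c q : ℂ) * (a c z : ℂ)) * hE2 +
        (((a c q : ℂ) ^ 2 * ((m c : ℂ) - 1) ^ 2) * (a c q : ℂ) ^ 2 + D) * hEz +
        ((m c : ℂ) - 1) ^ 2 * (-1 - D) * ((a c q : ℂ) ^ 2 + 1) * hq2 + D * (m c : ℂ) ^ 2 * ((a c z : ℂ) ^ 2 + 1) * hz2
    exact sub_eq_zero.1 (pow_eq_zero_iff two_ne_zero |>.1 h3)
  have hquq : (q : G → ℂ) u = (q : G → ℂ) 1 := by
    rw [hqu]; push_cast
    rw [← hD, hDdef, ← mul_assoc, hq2, one_mul]
  exact hqo (Subtype.ext (eq_one_of_apply_eq q hquq hgen))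

end CfsgLib.ZStar
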