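import Cfsg.Agent.Lib.ZStar.Fusion
import Cfsg.Agent.Lib.Blocks.Proj
import Mathlib.LinearAlgebra.Trace
import Mathlib.LinearAlgebra.Projection

/-! The principal 2-block of the centraliser of an involution with quaternion Sylow group of
order 8, via characters vanishing on elements of odd order. -/

set_option autoImplicit false
set_option maxHeartbeats 400000
set_option linter.unusedSectionVars false
set_option linter.style.haveILetI false

namespace CfsgLib.ZStar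

open Cfsg CfsgLib.Blocks CfsgLib.CharTheory
open scoped ComplexConjugate

universe u

variable {H : Type u} [Group H] [Fintype H]

theorem central_apply (χ : IrrCharacter H) {u : H} (hc : ∀ h, Commute h u) (y : H) :
    (χ : H → ℂ) (u * y) = (χ : H → ℂ) u / (χ : H → ℂ) 1 * (χ : H → ℂ) y := by
  have h := sum_conj_shift χ u y
  rw [Finset.sum_congr rfl fun g _ => (by rw [(hc g).eq, mul_inv_cancel_right] :
      (χ : H → ℂ) (g * u * g⁻¹ * y) = (χ : H → ℂ) (u * y)), Finset.sum_const, Finset.card_univ,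
    nsmul_eq_mul, ← Nat.card_eq_fintype_card, mul_assoc] at h
  exact mul_left_cancel₀ (Nat.cast_ne_zero.2 Nat.card_pos.ne') h

theorem exists_nat_trace {n : ℕ} {E : (Fin n → ℂ) →ₗ[ℂ] (Fin n → ℂ)} (h : IsIdempotentElem E) :
    ∃ k : ℕ, LinearMap.trace ℂ (Fin n → ℂ) E = k := by
  obtain ⟨p, hp⟩ := (LinearMap.isProj_iff_isIdempotentElem E).2 h
  exact ⟨_, hp.trace⟩

/-- Values at an element of order four squaring into a central involution and conjugate to its
inverse. -/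
theorem value_facts (χ : IrrCharacter H) {u x : H} (hu : orderOf u = 2) (hc : ∀ h, Commute h u)
    (hx : x * x = u) (hinv : IsConj x x⁻¹) :
    ∃ s n : ℤ, (s = 1 ∨ s = -1) ∧ (∀ y, (χ : H → ℂ) (u * y) = (s : ℂ) * (χ : H → ℂ) y) ∧
      (χ : H → ℂ) x = (n : ℂ) ∧
      (s = -1 → n = 0 ∧ ∃ k : ℕ, (χ : H → ℂ) 1 = 2 * (k : ℂ)) := by
  have h1 := irr_one_ne_zero χ
  set r := (χ : H → ℂ) u / (χ : H → ℂ) 1 with hr
  have hr2 : r ^ 2 = 1 := by
    have h := central_apply χ hc u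
    rw [sq_eq_one hu] at h
    rw [div_mul_eq_mul_div, eq_div_iff h1] at h
    rw [hr, div_pow, div_eq_one_iff_eq (pow_ne_zero _ h1)]
    linear_combination -h
  obtain ⟨s, hs, hsr⟩ : ∃ s : ℤ, (s = 1 ∨ s = -1) ∧ r = (s : ℂ) := by
    rcases sq_eq_one_iff.1 hr2 with e | e
    · exact ⟨1, Or.inl rfl, by rw [e, Int.cast_one]⟩
    · exact ⟨-1, Or.inr rfl, by rw [e, Int.cast_neg, Int.cast_one]⟩
  have hshift : ∀ y, (χ : H → ℂ) (u * y) = (s : ℂ) * (χ : H → ℂ) y := fun y => by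
    rw [central_apply χ hc y, ← hr, hsr]
  obtain ⟨d, ρ, hirr, hχ⟩ := χ.2
  have hχ1 : (χ : H → ℂ) 1 = (d : ℂ) := by
    rw [← hχ, Representation.char_one, Module.finrank_fin_fun]
  have hu1 : (χ : H → ℂ) u = (s : ℂ) * d := by
    have := hshift 1
    rwa [mul_one, hχ1] at this
  have hρu : ρ u = (s : ℂ) • (1 : (Fin d → ℂ) →ₗ[ℂ] (Fin d → ℂ)) := by
    obtain ⟨w, hw⟩ := eq_smul_id_of_norm_character_eq ρ u (by
      rw [hχ, hu1, Module.finrank_fin_fun]
      rcases hs with rfl | rfl <;> simp)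
    rw [← hχ, Representation.character, hw, map_smul, LinearMap.trace_id, Module.finrank_fin_fun,
      smul_eq_mul] at hu1
    rw [hw, mul_right_cancel₀ (show (d : ℂ) ≠ 0 from hχ1 ▸ h1) hu1]
    rfl
  have hX : ρ x * ρ x = (s : ℂ) • 1 := by rw [← map_mul, hx, hρu]
  have htrX : LinearMap.trace ℂ (Fin d → ℂ) (ρ x) = (χ : H → ℂ) x := by rw [← hχ]; rfl
  have htr1 : LinearMap.trace ℂ (Fin d → ℂ) 1 = (d : ℂ) := by
    rw [LinearMap.trace_one, Module.finrank_fin_fun]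
  rcases hs with rfl | rfl
  · obtain ⟨k, hk⟩ := exists_nat_trace (E := (1 / 2 : ℂ) • (1 + ρ x)) (by
      rw [IsIdempotentElem]
      simp only [smul_mul_assoc, mul_smul_comm, smul_smul, mul_add, add_mul, one_mul, mul_one, hX,
        Int.cast_one, one_smul, smul_add]
      module)
    rw [map_smul, map_add, htr1, htrX, smul_eq_mul] at hk
    exact ⟨1, 2 * k - d, Or.inl rfl, hshift, by push_cast; linear_combination 2 * hk,
      fun h => absurd h (by norm_num)⟩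
  · have hxinv : x⁻¹ = u * x := by
      rw [inv_eq_iff_mul_eq_one, ← mul_assoc, (hc x).eq, mul_assoc, hx, sq_eq_one hu]
    have h0 : (χ : H → ℂ) x = 0 := by
      have h := classFun_eq_of_isConj (irr_isClassFun χ) hinv
      rw [hxinv, hshift, Int.cast_neg, Int.cast_one] at h
      linear_combination (1 / 2 : ℂ) * h
    obtain ⟨k, hk⟩ := exists_nat_trace (E := (1 / 2 : ℂ) • (1 + (-Complex.I) • ρ x)) (by
      rw [IsIdempotentElem]
      simp only [smul_mul_assoc, mul_smul_comm, smul_smul, mul_add, add_mul, one_mul, mul_one, hX,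
        Int.cast_neg, Int.cast_one, smul_add]
      match_scalars <;> ring_nf <;> simp [Complex.I_sq] <;> ring_nf)
    rw [map_smul, map_add, map_smul, htr1, htrX, h0, smul_zero, add_zero, smul_eq_mul] at hk
    exact ⟨-1, 0, Or.inr rfl, hshift, by rw [h0, Int.cast_zero],
      fun _ => ⟨rfl, k, by rw [hχ1]; linear_combination 2 * hk⟩⟩

/-- What is needed about the centraliser of the involution. -/
structure QHyp (u x : H) : Prop where
  hu : orderOf u = 2
  hc : ∀ h, Commute h u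
  hx : x * x = u
  hcl : ∀ z, (∃ k, orderOf z = 2 ^ k) → z = 1 ∨ z = u ∨ IsConj x z
  hC : ∀ c, Commute c x → ¬ 2 ∣ orderOf c → c ∈ centralizerPPrimeCore 2 x
  hcard : (pPrimeCore 2 (Subgroup.centralizer ({x} : Set H))).index = 4
  hH : (Nat.card H).factorization 2 = 3

theorem QHyp.orderOf_x {u x : H} (h : QHyp u x) : orderOf x = 2 ^ 2 := by
  haveI : Fact (Nat.Prime 2) := ⟨Nat.prime_two⟩
  refine orderOf_eq_prime_pow ?_ ?_
  · rw [pow_one, pow_two, h.hx]
    intro e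
    have := h.hu
    rw [e, orderOf_one] at this
    exact absurd this (by norm_num)
  · rw [show 2 ^ (1 + 1) = 2 + 2 from rfl, pow_add, pow_two, h.hx, sq_eq_one h.hu]

theorem QHyp.isConj_inv {u x : H} (h : QHyp u x) : IsConj x x⁻¹ := by
  rcases h.hcl x⁻¹ ⟨2, by rw [orderOf_inv, h.orderOf_x]⟩ with e | e | e
  · have := h.orderOf_x
    rw [inv_eq_one.1 e, orderOf_one] at this
    exact absurd this (by norm_num)
  · have h1 := h.orderOf_x
    have h2 : x = u := by rw [← inv_inv x, e, inv_eq_self h.hu]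
    rw [h2, h.hu] at h1
    exact absurd h1 (by norm_num)
  · exact e

theorem odd_sum_sq_eq_one {ι : Type*} [DecidableEq ι] {s : Finset ι} {n : ι → ℤ} {o : ι}
    (ho : o ∈ s) (h1 : n o = 1) (h4 : ∑ i ∈ s, n i ^ 2 = 4) :
    ∀ i ∈ s, n i ^ 2 = 0 ∨ n i ^ 2 = 1 := by
  intro i hi
  rcases eq_or_ne i o with rfl | hne
  · exact Or.inr (by rw [h1]; norm_num)
  have h2 : n o ^ 2 + n i ^ 2 ≤ 4 := by
    rw [← h4, ← Finset.sum_pair (f := fun j => n j ^ 2) hne.symm]
    refine Finset.sum_le_sum_of_subset_of_nonneg ?_ (fun j _ _ => sq_nonneg _)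
    intro j hj
    rcases Finset.mem_insert.1 hj with rfl | hj
    · exact ho
    · rw [Finset.mem_singleton.1 hj]; exact hi
  rw [h1] at h2
  have : -2 < n i ∧ n i < 2 := ⟨by nlinarith, by nlinarith⟩
  obtain ⟨a, b⟩ := this
  interval_cases (n i) <;> norm_num

/-- Four even nonzero entries summing to zero with sum of squares sixteen: two signs each. -/
theorem existsUnique_same_sign {ι : Type*} [DecidableEq ι] {s : Finset ι} (hs : s.card = 3) {a : ℤ}
    (ha : a ^ 2 = 4) {b : ι → ℤ} (hb : ∀ i ∈ s, b i ^ 2 = 4) (hsum : ∑ i ∈ s, a * b i = -4) :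
    ∃ c ∈ s, b c = a ∧ ∀ i ∈ s, i ≠ c → b i = -a := by
  have hpm : ∀ i ∈ s, b i = a ∨ b i = -a := fun i hi => sq_eq_sq_iff_eq_or_eq_neg.1 ((hb i hi).trans ha.symm)
  obtain ⟨p, q, r, hpq, hpr, hqr, rfl⟩ := Finset.card_eq_three.1 hs
  rw [Finset.sum_insert (by simp [hpq, hpr]), Finset.sum_pair hqr] at hsum
  have hp := hpm p (by simp)
  have hq := hpm q (by simp)
  have hr := hpm r (by simp)
  rcases hp with hp | hp <;> rcases hq with hq | hq <;> rcases hr with hr | hr <;>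
    rw [hp, hq, hr] at hsum <;>
    first
    | (exfalso; nlinarith)
    | exact ⟨p, by simp, hp, by simp [hq, hr]⟩
    | exact ⟨q, by simp, hq, by simp [hp, hr]⟩
    | exact ⟨r, by simp, hr, by simp [hp, hq]⟩

variable {M : Ideal AlgInt}

/-- The virtual characters needed for the Brauer–Suzuki theorem for quaternion groups of
order 8. -/
theorem q_local (hM : IsPModular 2 M) {u x : H} (hq : QHyp u x) :
    ∃ (ι : Type u) (_ : Fintype ι) (_ : DecidableEq ι) (_ : Nonempty ι) (η : H → ℂ)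
      (Φ : ι → H → ℂ) (m : ι → ℤ),
      IsGeneralizedCharacter H η ∧ (∀ c, IsGeneralizedCharacter H (Φ c)) ∧
      (∀ h, ¬ 2 ∣ orderOf h → η h = 0 ∧ ∀ c, Φ c h = 0) ∧
      classInner η η = 4 ∧ classInner η (fun _ => 1) = 1 ∧
      (∀ c, classInner η (Φ c) = 2 ∧ classInner (Φ c) (fun _ => 1) = 1 ∧
        classInner (Φ c) (Φ c) = 3 ∧ m c ≠ 0 ∧ m c ≠ 1) ∧
      (∀ c d, c ≠ d → classInner (Φ c) (Φ d) = 1) ∧
      (∀ h, ∑ ψ ∈ bset (principalBlock M H), (ψ : H → ℂ) u * (ψ : H → ℂ) h =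
        -η h + ∑ c, (m c : ℂ) * Φ c h) := by
  classical
  haveI : Fact (Nat.Prime 2) := ⟨Nat.prime_two⟩
  haveI := res_isDomain hM
  have hB : IsPBlock M (principalBlock M H) := principalBlock_isPBlock
  set Bs := bset (principalBlock M H) with hBs
  set o : IrrCharacter H := oneIrr H with hodef
  have ho : o ∈ Bs := mem_bset.2 (oneIrr_mem hM)
  choose s n hs hshift hn hneg using fun χ : IrrCharacter H =>
    value_facts χ hq.hu hq.hc hq.hx hq.isConj_inv
  have ho1 : ∀ g, (o : H → ℂ) g = 1 := fun _ => rfl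
  have hno : n o = 1 := by have := hn o; rw [ho1] at this; exact_mod_cast this.symm
  have hso : s o = 1 := by
    have := hshift o 1; rw [ho1, ho1, mul_one] at this; exact_mod_cast this.symm
  have hxord : ∃ k, orderOf x = 2 ^ k := ⟨2, hq.orderOf_x⟩
  have hxinv : ∀ χ : IrrCharacter H, (χ : H → ℂ) x⁻¹ = n χ := fun χ => by
    rw [← classFun_eq_of_isConj (irr_isClassFun χ) hq.isConj_inv, hn]
  have hx4 : ∑ ψ ∈ Bs, n ψ ^ 2 = 4 := by
    haveI : Fintype (Subgroup.centralizer ({x} : Set H)) := Fintype.ofFinite _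
    have hodd1 : ¬ 2 ∣ orderOf (1 : Subgroup.centralizer ({x} : Set H)) := by
      rw [orderOf_one]; norm_num
    have h := sum_sq_section hM (isCentr_singleton x) hxord hB hodd1 hodd1
    have hO := CfsgLib.not_dvd_card_pPrimeCore
      (G := Subgroup.centralizer ({x} : Set H)) Nat.prime_two
    rw [overBlocks_principal hM (isCentr_singleton x) hxord,
      principalBlock_of_complement hM hO ⟨2, hq.hcard⟩, Subgroup.coe_one, mul_one] at h
    replace h := h.trans (Finset.sum_congr rfl fun ψ _ => congrArg _ (irr_one_conj ψ))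
    rw [sum_sq_kernel, hq.hcard] at h
    have e : ((∑ ψ ∈ Bs, n ψ ^ 2 : ℤ) : ℂ) = ((4 : ℤ) : ℂ) := by
      push_cast
      refine Eq.trans ?_ (h.trans (by norm_num))
      refine Finset.sum_congr rfl fun ψ _ => ?_
      rw [hn, map_intCast, pow_two]
    exact_mod_cast e
  have hnsq : ∀ ψ ∈ Bs, n ψ ^ 2 = 0 ∨ n ψ ^ 2 = 1 := odd_sum_sq_eq_one ho hno hx4
  set T := Bs.filter fun ψ => n ψ ≠ 0 with hT
  have hTn : ∀ ψ ∈ T, n ψ * n ψ = 1 := fun ψ hψ => by
    obtain ⟨h1, h2⟩ := Finset.mem_filter.1 hψ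
    rcases hnsq ψ h1 with h | h
    · exact absurd (pow_eq_zero_iff two_ne_zero |>.1 h) h2
    · rw [← pow_two, h]
  have hTB : ∀ ψ ∈ T, ψ ∈ Bs := fun ψ hψ => (Finset.mem_filter.1 hψ).1
  have hTs : ∀ ψ ∈ T, s ψ = 1 := fun ψ hψ =>
    (hs ψ).resolve_right fun h => (Finset.mem_filter.1 hψ).2 (hneg ψ h).1
  have hTcard : T.card = 4 := by
    have h : ∑ ψ ∈ Bs, n ψ ^ 2 = ∑ ψ ∈ T, n ψ ^ 2 :=
      (Finset.sum_filter_of_ne (p := fun ψ => n ψ ≠ 0) fun ψ _ hne h0 => hne (by rw [h0]; norm_num)).symm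
    rw [hx4, Finset.sum_congr rfl fun ψ hψ => (pow_two (n ψ)).trans (hTn ψ hψ), Finset.sum_const,
      nsmul_one] at h
    exact_mod_cast h.symm
  have hoT : o ∈ T := Finset.mem_filter.2 ⟨ho, by rw [hno]; norm_num⟩
  -- the sections
  set X : H → Prop := fun g => ∃ z, IsPPart 2 g z ∧ IsConj x z with hXdef
  have hconst : ∀ g, X g → ∀ ψ ∈ Bs, (ψ : H → ℂ) g = n ψ := by
    rintro g ⟨z, ⟨w, rfl, hcw, -, hw⟩, hxz⟩ ψ hψ
    obtain ⟨k, rfl⟩ := isConj_iff.1 hxz
    have hcw' : Commute (k⁻¹ * w * k) x := by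
      have h1 := hcw.symm.map (MulAut.conj k⁻¹).toMonoidHom
      simpa [mul_assoc] using h1
    have hw' : ¬ 2 ∣ orderOf (k⁻¹ * w * k) := by
      have := orderOf_conj k⁻¹ w
      rw [inv_inv] at this
      rwa [this]
    rw [show k * x * k⁻¹ * w = k * (x * (k⁻¹ * w * k)) * k⁻¹ by group, irr_isClassFun ψ,
      Cfsg.Agent.S0942.result 2 M hM x hxord _ (hq.hC _ hcw' hw') ψ (mem_bset.1 hψ), hn]
  set η : H → ℂ := fun g => ∑ ψ ∈ Bs, (n ψ : ℂ) * (ψ : H → ℂ) g with hηdef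
  have hηX : ∀ g, η g = if X g then 4 else 0 := by
    intro g
    split_ifs with hg
    · simp only [hηdef]
      rw [Finset.sum_congr rfl fun ψ hψ => by rw [hconst g hg ψ hψ]]
      have e : ((∑ ψ ∈ Bs, n ψ ^ 2 : ℤ) : ℂ) = ((4 : ℤ) : ℂ) := by rw [hx4]
      push_cast at e
      rw [← e]
      exact Finset.sum_congr rfl fun ψ _ => (pow_two _).symm
    · obtain ⟨z, w, hzw, hcom, hz, hw, -, -⟩ := exists_pPart Nat.prime_two g
      have h1 : IsPPart 2 x x :=
        ⟨1, mul_one x, Commute.one_right x, hxord, by rw [orderOf_one]; norm_num⟩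
      have h := block_orth hM hB (g := g) (h := x) (x := z) (y := x)
        ⟨w, hzw, hcom, hz, hw⟩ h1 (fun hc => hg ⟨z, ⟨w, hzw, hcom, hz, hw⟩, hc.symm⟩)
      rw [← h]
      refine Finset.sum_congr rfl fun ψ _ => ?_
      rw [hxinv, mul_comm]
  have hsec : ∀ g : H, ¬ X g → ¬ 2 ∣ orderOf g ∨ ¬ 2 ∣ orderOf (u * g) := by
    intro g hg
    obtain ⟨z, w, hzw, hcom, hz, hw, -, -⟩ := exists_pPart Nat.prime_two g
    rcases hq.hcl z hz with rfl | rfl | hc
    · left; rwa [← hzw, one_mul]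
    · right; rwa [← hzw, ← mul_assoc, sq_eq_one hq.hu, one_mul]
    · exact absurd ⟨z, ⟨w, hzw, hcom, hz, hw⟩, hc⟩ hg
  have hXreg : ∀ g : H, ¬ 2 ∣ orderOf g → ¬ X g := by
    rintro g hg ⟨z, ⟨w, hzw, hcom, hz, hw⟩, hc⟩
    have := pPart_unique Nat.prime_two hcom (Commute.one_left g) hz ⟨0, by simp⟩ hw hg
      (by rw [hzw, one_mul])
    rw [this.1, isConj_one_left] at hc
    have h2 := hq.orderOf_x
    rw [hc, orderOf_one] at h2
    exact absurd h2 (by norm_num)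
  have hXu : ∀ g : H, ¬ 2 ∣ orderOf g → ¬ X (u * g) := by
    rintro g hg ⟨z, ⟨w, hzw, hcom, hz, hw⟩, hc⟩
    have := pPart_unique Nat.prime_two hcom (hq.hc g).symm hz ⟨1, by rw [hq.hu, pow_one]⟩ hw hg hzw
    rw [this.1] at hc
    obtain ⟨k, hk⟩ := isConj_iff.1 hc
    have h2 := congrArg orderOf hk
    rw [orderOf_conj, hq.orderOf_x, hq.hu] at h2
    exact absurd h2 (by norm_num)
  have hsplit : ∀ f : H → ℂ, ∑ g, f g =
      ∑ g ∈ Finset.univ.filter (fun g => ¬ 2 ∣ orderOf g), (f g + f (u * g)) +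
        ∑ g ∈ Finset.univ.filter X, f g := by
    intro f
    rw [Finset.sum_add_distrib, ← Finset.sum_filter_add_sum_filter_not Finset.univ X,
      add_comm (∑ g ∈ Finset.univ.filter X, f g)]
    congr 1
    rw [← Finset.sum_filter_add_sum_filter_not (Finset.univ.filter fun g => ¬ X g)
      (fun g => ¬ 2 ∣ orderOf g), Finset.filter_filter, Finset.filter_filter]
    congr 1
    · refine Finset.sum_congr (Finset.filter_congr fun g _ => ?_) fun _ _ => rfl
      exact ⟨fun h => h.2, fun h => ⟨hXreg g h, h⟩⟩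
    · refine Finset.sum_nbij' (fun g => u * g) (fun g => u * g) ?_ ?_ ?_ ?_ ?_
      · intro g hg
        obtain ⟨-, hgX, hg2⟩ := Finset.mem_filter.1 hg
        exact Finset.mem_filter.2 ⟨Finset.mem_univ _, (hsec g hgX).resolve_left hg2⟩
      · intro g hg
        obtain ⟨-, hg2⟩ := Finset.mem_filter.1 hg
        refine Finset.mem_filter.2 ⟨Finset.mem_univ _, hXu g hg2, ?_⟩
        rw [(hq.hc g).symm.orderOf_mul_eq_mul_orderOf_of_coprime
          (by rw [hq.hu]; exact Nat.prime_two.coprime_iff_not_dvd.2 hg2), hq.hu]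
        exact not_not.2 (dvd_mul_right 2 _)
      · intro g _; show u * (u * g) = g; rw [← mul_assoc, sq_eq_one hq.hu, one_mul]
      · intro g _; show u * (u * g) = g; rw [← mul_assoc, sq_eq_one hq.hu, one_mul]
      · intro g _; show f g = f (u * (u * g)); rw [← mul_assoc, sq_eq_one hq.hu, one_mul]
  set K := Nat.card H / 2 ^ (Nat.card H).factorization 2 with hKdef
  have hHK : (Nat.card H : ℂ) = 8 * (K : ℂ) := by
    have h := (Nat.ordProj_mul_ordCompl_eq_self (Nat.card H) 2).symm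
    rw [← hKdef, hq.hH] at h
    exact_mod_cast h
  have hKodd : ¬ 2 ∣ K := Nat.not_dvd_ordCompl Nat.prime_two Nat.card_pos.ne'
  have hK0 : (K : ℂ) ≠ 0 := Nat.cast_ne_zero.2 fun h => hKodd (h ▸ dvd_zero 2)
  have hinner : ∀ φ ψ : IrrCharacter H, ∑ g, (φ : H → ℂ) g * (ψ : H → ℂ) g⁻¹ =
      if φ = ψ then (Nat.card H : ℂ) else 0 := by
    intro φ ψ
    have h : classInner (φ : H → ℂ) (ψ : H → ℂ) = if φ = ψ then 1 else 0 := by
      split_ifs with e
      · rw [e]; exact classInner_irr_self ψ.2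
      · exact classInner_irr_ne φ.2 ψ.2 fun e' => e (Subtype.ext e')
    simp only [classInner, irr_conjInv] at h
    rw [inv_mul_eq_iff_eq_mul₀ (Nat.cast_ne_zero.2 Nat.card_pos.ne')] at h
    rw [h]; split_ifs <;> simp
  have hinv_arg : ∀ (ψ : IrrCharacter H) (g : H), (ψ : H → ℂ) g⁻¹ = conj ((ψ : H → ℂ) g) :=
    fun ψ g => (irr_conjInv ψ g).symm
  have hXcard : ((Finset.univ.filter X).card : ℂ) * 4 = (Nat.card H : ℂ) := by
    have h : ∑ g, η g * (o : H → ℂ) g⁻¹ = (Nat.card H : ℂ) := by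
      simp only [hηdef, Finset.sum_mul]
      rw [Finset.sum_comm, Finset.sum_eq_single_of_mem o ho]
      · rw [Finset.sum_congr rfl fun g _ => mul_assoc (n o : ℂ) _ _, ← Finset.mul_sum, hinner,
          if_pos rfl, hno, Int.cast_one, one_mul]
      · intro ψ _ hne
        rw [Finset.sum_congr rfl fun g _ => mul_assoc (n ψ : ℂ) _ _, ← Finset.mul_sum, hinner,
          if_neg hne, mul_zero]
    rw [← h, Finset.sum_congr rfl fun g _ => by rw [hηX, ho1, mul_one],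
      ← Finset.sum_filter, Finset.sum_const, nsmul_eq_mul]
  -- the integral matrix
  choose v hv using fun φ ψ : IrrCharacter H => exists_int_regS Nat.prime_two φ ψ
  rw [← hKdef] at hv
  have hvsymm : ∀ φ ψ, v φ ψ = v ψ φ := fun φ ψ => by
    have h := hv φ ψ
    rw [regS_comm, hv ψ φ] at h
    exact_mod_cast (mul_left_cancel₀ hK0 h).symm
  have hformula : ∀ φ ∈ Bs, ∀ ψ ∈ Bs,
      (1 + s φ * s ψ) * v φ ψ + 2 * (n φ * n ψ) = if φ = ψ then 8 else 0 := by
    intro φ hφ ψ hψ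
    have h := hinner φ ψ
    rw [hsplit, Finset.sum_congr rfl fun g _ => (by
      rw [hshift φ g, hinv_arg ψ (u * g), hshift ψ g, map_mul, map_intCast, ← hinv_arg]
      ring :
      (φ : H → ℂ) g * (ψ : H → ℂ) g⁻¹ + (φ : H → ℂ) (u * g) * (ψ : H → ℂ) (u * g)⁻¹ =
        (1 + (s φ : ℂ) * (s ψ : ℂ)) * ((φ : H → ℂ) g * (ψ : H → ℂ) g⁻¹)),
      ← Finset.mul_sum, ← regS_eq_sum, hv,
      Finset.sum_congr rfl (fun g hg => (by
        rw [hinv_arg, hconst g (Finset.mem_filter.1 hg).2 φ hφ,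
          hconst g (Finset.mem_filter.1 hg).2 ψ hψ, map_intCast] :
        (φ : H → ℂ) g * (ψ : H → ℂ) g⁻¹ = (n φ : ℂ) * n ψ)),
      Finset.sum_const, nsmul_eq_mul] at h
    have h2 : (Finset.univ.filter X).card = 2 * K := by
      have := hXcard
      rw [hHK] at this
      have h' : (Finset.univ.filter X).card * 4 = 8 * K := by exact_mod_cast this
      omega
    rw [h2, hHK] at h
    push_cast at h
    have : (((1 + s φ * s ψ) * v φ ψ + 2 * (n φ * n ψ) : ℤ) : ℂ) =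
        ((if φ = ψ then 8 else 0 : ℤ) : ℂ) := by
      refine mul_left_cancel₀ hK0 ?_
      split_ifs with e
      · rw [if_pos e] at h; push_cast; linear_combination h
      · rw [if_neg e] at h; push_cast; linear_combination h
    exact_mod_cast this
  have hvT : ∀ φ ∈ T, ∀ ψ ∈ T, v φ ψ = (if φ = ψ then 4 else 0) - n φ * n ψ := by
    intro φ hφ ψ hψ
    have h := hformula φ (hTB φ hφ) ψ (hTB ψ hψ)
    rw [hTs φ hφ, hTs ψ hψ] at h
    split_ifs at h ⊢ <;> linarith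
  have hvo : ∀ ψ ∈ T, ¬ (2 : ℤ) ∣ v o ψ := by
    intro ψ hψ
    rw [hvT o hoT ψ hψ, hno, one_mul]
    have hn2 : ¬ (2 : ℤ) ∣ n ψ := fun ⟨t, ht⟩ => by
      have h := hTn ψ hψ
      rw [ht] at h
      have : (4 : ℤ) ∣ 1 := ⟨t * t, by linarith⟩
      omega
    split_ifs <;> omega
  -- congruence
  have hcongr : ∀ φ ∈ Bs, ∀ ψ ∈ T, v φ ψ ≠ 0 ∧ (s φ = -1 → (2 : ℤ) ∣ v φ ψ) := by
    intro φ hφ ψ hψ
    have hsame : SameBlock M ((o : IrrCharacter H) : H → ℂ) (φ : H → ℂ) :=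
      sameBlock_of_mem hM hB (mem_bset.1 ho) (mem_bset.1 hφ)
    have h := res_omega_regFn_congr hM hsame ψ
    rw [omega_regFn, omega_regFn, hv, hv, ho1, div_one] at h
    have hint : ∀ z : ℤ, res hM ((K : ℂ) * z) = 0 ↔ (2 : ℤ) ∣ z := by
      intro z
      haveI := res_charP hM
      rw [show ((K : ℂ) * z) = (((K : ℤ) * z : ℤ) : ℂ) by push_cast; rfl,
        show res hM (((K : ℤ) * z : ℤ) : ℂ) = (((K : ℤ) * z : ℤ) : AlgInt ⧸ M) by
          rw [← map_intCast (resHom hM) ((K : ℤ) * z)]; rfl,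
        CharP.intCast_eq_zero_iff (AlgInt ⧸ M) 2]
      refine ⟨fun h => ?_, fun h => dvd_mul_of_dvd_right h _⟩
      exact ((Int.prime_two.dvd_mul).1 h).resolve_left fun h' => hKodd (by exact_mod_cast h')
    have hne : res hM ((K : ℂ) * (v φ ψ : ℤ) / (φ : H → ℂ) 1) ≠ 0 := by
      rw [← h, ne_eq, hint]; exact hvo ψ hψ
    refine ⟨fun h0 => hne (by rw [h0, Int.cast_zero, mul_zero, zero_div, res_zero]), fun hsφ => ?_⟩
    obtain ⟨-, k, hk⟩ := hneg φ hsφ
    rw [← hint]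
    have hmem : MemLocalRing M ((K : ℂ) * (v φ ψ : ℤ) / (φ : H → ℂ) 1) := by
      have := memRing_omega_regFn hM φ ψ
      rwa [omega_regFn, hv] at this
    have hd : (φ : H → ℂ) 1 = ((2 * k : ℕ) : ℂ) := by rw [hk]; push_cast; ring
    rw [show ((K : ℂ) * (v φ ψ : ℤ)) =
      (φ : H → ℂ) 1 * ((K : ℂ) * (v φ ψ : ℤ) / (φ : H → ℂ) 1) by
        field_simp [irr_one_ne_zero φ], hd, res_mul hM (memRing_natCast hM _) (hd ▸ hmem),
      res_natCast]
    haveI := res_charP hM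
    rw [(CharP.cast_eq_zero_iff (AlgInt ⧸ M) 2 _).2 (dvd_mul_right 2 k), zero_mul]
  -- `F` consists of the faithful members
  set F := Bs.filter fun ψ => ¬ n ψ ≠ 0 with hF
  have hFn : ∀ ξ ∈ F, n ξ = 0 := fun ξ h => not_not.1 (Finset.mem_filter.1 h).2
  have hFB : ∀ ξ ∈ F, ξ ∈ Bs := fun ξ h => (Finset.mem_filter.1 h).1
  have hFs : ∀ ξ ∈ F, s ξ = -1 := by
    intro ξ hξ
    refine (hs ξ).resolve_left fun h1 => (hcongr ξ (hFB ξ hξ) o hoT).1 ?_
    have hne : ξ ≠ o := fun e => by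
      have h := hFn ξ hξ
      rw [e, hno] at h
      exact one_ne_zero h
    have h := hformula ξ (hFB ξ hξ) o ho
    rw [h1, hso, hFn ξ hξ, if_neg hne] at h
    linarith
  have hgram : ∀ φ ∈ Bs, ∀ ψ ∈ Bs, ∑ χ ∈ Bs, v φ χ * v χ ψ = 8 * v φ ψ := by
    intro φ hφ ψ _
    have h : ∑ χ ∈ Bs, regS 2 (φ : H → ℂ) (χ : H → ℂ) * regS 2 (χ : H → ℂ) (ψ : H → ℂ) =
        (Nat.card H : ℂ) * regS 2 (φ : H → ℂ) (ψ : H → ℂ) := by
      rw [Finset.sum_congr rfl fun χ _ => by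
        rw [show regS 2 (χ : H → ℂ) (ψ : H → ℂ) = ∑ g, regFn 2 (ψ : H → ℂ) g * (χ : H → ℂ) g from rfl,
          Finset.mul_sum], Finset.sum_comm,
        show regS 2 (φ : H → ℂ) (ψ : H → ℂ) = ∑ g, regFn 2 (ψ : H → ℂ) g * (φ : H → ℂ) g from rfl,
        Finset.mul_sum]
      refine Finset.sum_congr rfl fun g _ => ?_
      rw [Finset.sum_congr rfl fun χ _ => (mul_left_comm _ (regFn 2 (ψ : H → ℂ) g) _),
        ← Finset.mul_sum, sum_regS_mul hM hB φ g, ind_of_mem (mem_bset.1 hφ)]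
      by_cases hg : 2 ∣ orderOf g
      · simp [regFn, hg]
      · rw [if_neg hg]; ring
    simp only [hv, hHK] at h
    have h2 : ((∑ χ ∈ Bs, v φ χ * v χ ψ : ℤ) : ℂ) = ((8 * v φ ψ : ℤ) : ℂ) := by
      push_cast
      refine mul_left_cancel₀ (mul_ne_zero hK0 hK0) ?_
      rw [Finset.mul_sum]
      refine Eq.trans (Finset.sum_congr rfl fun χ _ => by ring) (h.trans (by ring))
    exact_mod_cast h2
  have hgramF : ∀ i ∈ T, ∀ j ∈ T, ∑ ξ ∈ F, (n i * v i ξ) * (n j * v j ξ) =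
      (if i = j then 16 else 0) - 4 := by
    intro i hi j hj
    have h := hgram i (hTB i hi) j (hTB j hj)
    rw [← Finset.sum_filter_add_sum_filter_not Bs (fun ψ => n ψ ≠ 0), ← hT, ← hF] at h
    have hTT : ∑ χ ∈ T, v i χ * v χ j = (if i = j then 16 else 0) - 4 * (n i * n j) := by
      rw [Finset.sum_congr rfl fun χ hχ => (by
        rw [hvT i hi χ hχ, hvT χ hχ j hj]
        rcases eq_or_ne i χ with rfl | h1
        · rcases eq_or_ne i j with rfl | h2
          · simp only [↓reduceIte]; linear_combination (n i * n i) * hTn i hi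
          · simp only [↓reduceIte, h2]; linear_combination (n i * n j) * hTn i hi
        · rcases eq_or_ne χ j with rfl | h2
          · simp only [↓reduceIte, h1]
            linear_combination (n i * n χ) * hTn χ hχ
          · simp only [↓reduceIte, h1, h2]
            linear_combination (n i * n j) * hTn χ hχ :
        v i χ * v χ j = n i * n j + (if i = χ then (if i = j then 16 else 0) - 4 * (n i * n j) else 0)
          + (if χ = j then - 4 * (n i * n j) else 0)),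
        Finset.sum_add_distrib, Finset.sum_add_distrib, Finset.sum_const, hTcard,
        Finset.sum_ite_eq, if_pos hi, Finset.sum_ite_eq', if_pos hj]
      simp; ring
    rw [hTT, hvT i hi j hj] at h
    have hF' : ∑ ξ ∈ F, v i ξ * v ξ j = (if i = j then 16 else 0) - 4 * (n i * n j) := by
      split_ifs at h ⊢ <;> linarith
    rw [Finset.sum_congr rfl fun ξ _ => show n i * v i ξ * (n j * v j ξ) =
        n i * n j * (v i ξ * v ξ j) by rw [hvsymm ξ j]; ring, ← Finset.mul_sum, hF']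
    split_ifs with e
    · subst e; linear_combination (16 - 4 * (n i * n i + 1)) * hTn i hi
    · linear_combination (-4 * (n j * n j)) * hTn i hi + (-4 : ℤ) * hTn j hj
  have hFnonneg : ∀ ξ ∈ F, ∀ i ∈ T, 4 ≤ (n i * v i ξ) ^ 2 := by
    intro ξ hξ i hi
    obtain ⟨h1, h2⟩ := hcongr ξ (hFB ξ hξ) i hi
    obtain ⟨t, ht⟩ := h2 (hFs ξ hξ)
    rw [hvsymm i ξ, mul_pow, pow_two (n i), hTn i hi, one_mul, ht, mul_pow]
    have : t ≠ 0 := fun e => h1 (by rw [ht, e, mul_zero])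
    have : 1 ≤ t ^ 2 := by have := sq_nonneg t; have : t ^ 2 ≠ 0 := pow_ne_zero 2 ‹t ≠ 0›; omega
    linarith
  set t : IrrCharacter H → IrrCharacter H → ℤ := fun ξ i => n i * v i ξ with htdef
  have hdiag : ∀ i ∈ T, ∑ ξ ∈ F, t ξ i ^ 2 = 12 := by
    intro i hi
    rw [Finset.sum_congr rfl fun ξ _ => pow_two (t ξ i)]
    simp only [htdef]
    rw [hgramF i hi i hi, if_pos rfl]
    norm_num
  have hrow0 : ∀ ξ ∈ F, ∑ i ∈ T, t ξ i = 0 := by
    intro ξ hξ
    have h : ∑ g, regFn 2 (ξ : H → ℂ) g * η g = 0 := by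
      refine Finset.sum_eq_zero fun g _ => ?_
      by_cases hg : 2 ∣ orderOf g
      · simp [regFn, hg]
      · rw [hηX, if_neg (hXreg g hg), mul_zero]
    simp only [hηdef, Finset.mul_sum] at h
    rw [Finset.sum_comm, ← Finset.sum_filter_of_ne (p := fun ψ => n ψ ≠ 0)
      (fun ψ _ hne h0 => hne (by simp [h0])), ← hT] at h
    rw [Finset.sum_congr rfl fun ψ _ => (by
      rw [← hv, regS, Finset.mul_sum]
      exact Finset.sum_congr rfl fun g _ => by ring :
      ∑ g, regFn 2 (ξ : H → ℂ) g * ((n ψ : ℂ) * (ψ : H → ℂ) g) = (n ψ : ℂ) * ((K : ℂ) * v ψ ξ))] at h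
    have h2 : ((∑ i ∈ T, t ξ i : ℤ) : ℂ) = ((0 : ℤ) : ℂ) := by
      simp only [htdef]; push_cast
      refine mul_left_cancel₀ hK0 ?_
      rw [mul_zero, Finset.mul_sum, ← h]
      exact Finset.sum_congr rfl fun ψ _ => by ring
    exact_mod_cast h2
  have hFcard : F.card ≤ 3 := by
    have h := Finset.card_nsmul_le_sum F (fun ξ => t ξ o ^ 2) 4 fun ξ hξ => hFnonneg ξ hξ o hoT
    rw [hdiag o hoT, nsmul_eq_mul] at h
    omega
  -- each entry is `±2`, three rows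
  have hFne : F.Nonempty := by
    by_contra he
    have := hdiag o hoT
    rw [Finset.not_nonempty_iff_eq_empty.1 he, Finset.sum_empty] at this
    norm_num at this
  have heven : ∀ ξ ∈ F, ∀ i ∈ T, ∃ w : ℤ, t ξ i = 2 * w ∧ 1 ≤ w ^ 2 := by
    intro ξ hξ i hi
    obtain ⟨w, hw⟩ := (hcongr ξ (hFB ξ hξ) i hi).2 (hFs ξ hξ)
    have h4 := hFnonneg ξ hξ i hi
    refine ⟨n i * w, by simp only [htdef]; rw [hvsymm i ξ, hw]; ring, ?_⟩
    rw [hvsymm i ξ, hw] at h4
    nlinarith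
  have hcol : ∀ ξ ∈ F, ∀ i ∈ T, t ξ i ^ 2 = 4 := by
    intro ξ hξ i hi
    obtain ⟨w, hw, hw1⟩ := heven ξ hξ i hi
    by_contra hne
    have hw2 : 4 ≤ w ^ 2 := by
      have h' : w ^ 2 ≠ 1 := fun e => hne (by rw [hw, mul_pow, e]; norm_num)
      have : w ≠ 0 ∧ w ≠ 1 ∧ w ≠ -1 :=
        ⟨fun e => by rw [e] at hw1; norm_num at hw1, fun e => h' (by rw [e]; norm_num),
          fun e => h' (by rw [e]; norm_num)⟩
      rcases lt_or_gt_of_ne this.1 with hlt | hlt
      · have : w ≤ -2 := by omega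
        nlinarith
      · have : 2 ≤ w := by omega
        nlinarith
    have h1 := Finset.add_sum_erase F (fun ξ => t ξ i ^ 2) hξ
    rw [hdiag i hi] at h1
    have h2 : 0 ≤ ∑ ξ ∈ F.erase ξ, t ξ i ^ 2 := Finset.sum_nonneg fun _ _ => sq_nonneg _
    have h3 : 16 ≤ t ξ i ^ 2 := by rw [hw, mul_pow]; linarith
    linarith
  have hFcard3 : F.card = 3 := by
    have h := hdiag o hoT
    rw [Finset.sum_congr rfl fun ξ hξ => hcol ξ hξ o hoT, Finset.sum_const, nsmul_eq_mul] at h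
    omega
  set T' := T.erase o with hT'
  have hT'card : T'.card = 3 := by rw [hT', Finset.card_erase_of_mem hoT, hTcard]
  have hT'T : ∀ i ∈ T', i ∈ T ∧ i ≠ o := fun i hi =>
    ⟨Finset.mem_of_mem_erase hi, (Finset.mem_erase.1 hi).1⟩
  have hrow : ∀ ξ ∈ F, ∃ c ∈ T', t ξ c = t ξ o ∧ ∀ i ∈ T', i ≠ c → t ξ i = -t ξ o := by
    intro ξ hξ
    refine existsUnique_same_sign hT'card (hcol ξ hξ o hoT)
      (fun i hi => hcol ξ hξ i (hT'T i hi).1) ?_
    have := hrow0 ξ hξ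
    rw [← Finset.add_sum_erase T _ hoT, ← hT'] at this
    rw [← Finset.mul_sum]
    linear_combination (t ξ o) * this - hcol ξ hξ o hoT
  have hcolumn : ∀ c ∈ T', ∃ ξ ∈ F, t ξ c = t ξ o ∧ ∀ ξ' ∈ F, ξ' ≠ ξ → t ξ' c = -t ξ' o := by
    intro c hc
    obtain ⟨hcT, hco⟩ := hT'T c hc
    obtain ⟨ξ, hξ, h1, h2⟩ := existsUnique_same_sign hFcard3 (a := (2 : ℤ)) (by norm_num)
      (b := fun ξ => t ξ o * t ξ c / 2) (fun ξ hξ => by
        obtain ⟨a, ha, -⟩ := heven ξ hξ o hoT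
        obtain ⟨b, hb, -⟩ := heven ξ hξ c hcT
        have h1 := hcol ξ hξ o hoT
        have h2 := hcol ξ hξ c hcT
        rw [ha, hb] at *
        rw [show 2 * a * (2 * b) / 2 = 2 * a * b by rw [show 2 * a * (2 * b) = 2 * (2 * a * b) by ring,
          Int.mul_ediv_cancel_left _ two_ne_zero]]
        nlinarith) (by
        have h := hgramF o hoT c hcT
        rw [if_neg (Ne.symm hco)] at h
        rw [← Finset.mul_sum]
        have hdiv : ∀ ξ ∈ F, 2 * (t ξ o * t ξ c / 2) = t ξ o * t ξ c := fun ξ hξ => by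
          obtain ⟨a, ha, -⟩ := heven ξ hξ o hoT
          exact Int.mul_ediv_cancel' ⟨a * t ξ c, by rw [ha]; ring⟩
        rw [Finset.mul_sum, Finset.sum_congr rfl hdiv]
        simpa [htdef] using h)
    refine ⟨ξ, hξ, ?_, fun ξ' hξ' hne => ?_⟩
    · obtain ⟨a, ha, -⟩ := heven ξ hξ o hoT
      have h3 : t ξ o * t ξ c = 4 := by
        have := Int.mul_ediv_cancel' (show (2 : ℤ) ∣ t ξ o * t ξ c from ⟨a * t ξ c, by rw [ha]; ring⟩)
        linarith [h1]
      nlinarith [hcol ξ hξ o hoT, hcol ξ hξ c hcT, sq_nonneg (t ξ c - t ξ o)]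
    · obtain ⟨a, ha, -⟩ := heven ξ' hξ' o hoT
      have h3 : t ξ' o * t ξ' c = -4 := by
        have := Int.mul_ediv_cancel'
          (show (2 : ℤ) ∣ t ξ' o * t ξ' c from ⟨a * t ξ' c, by rw [ha]; ring⟩)
        linarith [h2 ξ' hξ' hne]
      nlinarith [hcol ξ' hξ' o hoT, hcol ξ' hξ' c hcT, sq_nonneg (t ξ' c + t ξ' o)]
  choose ξc hξF hξc hξo using fun c : {c // c ∈ T'} => hcolumn c.1 c.2
  have hinj : Function.Injective ξc := by
    intro c d h
    by_contra hne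
    obtain ⟨c₀, -, -, huni⟩ := hrow (ξc c) (hξF c)
    have hz : ∀ i : {c // c ∈ T'}, t (ξc c) i.1 = t (ξc c) o → i.1 = c₀ := by
      intro i hi
      by_contra hi'
      have h2 := huni i.1 i.2 hi'
      rw [hi] at h2
      have h4 := hcol (ξc c) (hξF c) o hoT
      nlinarith
    exact hne (Subtype.ext ((hz c (hξc c)).trans (hz d (by rw [h]; exact hξc d)).symm))
  have himage : Finset.univ.image ξc = F := by
    refine Finset.eq_of_subset_of_card_le (fun ξ hξ => ?_) ?_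
    · obtain ⟨c, -, rfl⟩ := Finset.mem_image.1 hξ
      exact hξF c
    · rw [Finset.card_image_of_injective _ hinj, Finset.card_univ, Fintype.card_coe, hT'card,
        hFcard3]
  -- the virtual characters
  set ε : IrrCharacter H → ℤ := fun ξ => -(t ξ o / 2) with hεdef
  have hε : ∀ ξ ∈ F, 2 * ε ξ = -t ξ o ∧ ε ξ * ε ξ = 1 := by
    intro ξ hξ
    obtain ⟨a, ha, -⟩ := heven ξ hξ o hoT
    have h4 := hcol ξ hξ o hoT
    rw [ha] at h4
    simp only [hεdef, ha, Int.mul_ediv_cancel_left _ (two_ne_zero (α := ℤ))]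
    exact ⟨by ring, by linarith⟩
  set Φ : {c // c ∈ T'} → H → ℂ := fun c g =>
    1 + (n c.1 : ℂ) * (c.1 : H → ℂ) g + (ε (ξc c) : ℂ) * (ξc c : H → ℂ) g with hΦdef
  have hΦreg : ∀ c g, ¬ 2 ∣ orderOf g → Φ c g = 0 := by
    intro c g hg
    obtain ⟨hcT, hco⟩ := hT'T c.1 c.2
    have hξ := hξF c
    set ξ := ξc c
    have e1 : v o o = 3 := by rw [hvT o hoT o hoT, if_pos rfl, hno]; norm_num
    have e2 : v c.1 c.1 = 3 := by rw [hvT _ hcT _ hcT, if_pos rfl, hTn _ hcT]; norm_num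
    have e3 : v o c.1 = -n c.1 := by
      rw [hvT o hoT _ hcT, if_neg (Ne.symm hco), hno]; ring
    have e4 : v ξ ξ = 4 := by
      have h := hformula ξ (hFB ξ hξ) ξ (hFB ξ hξ)
      rw [hFs ξ hξ, hFn ξ hξ, if_pos rfl] at h
      linarith
    have e5 : ε ξ * v o ξ + ε ξ * (n c.1 * v c.1 ξ) = -4 := by
      have h1 : v o ξ = t ξ o := by simp only [htdef, hno, one_mul]
      have h2 : n c.1 * v c.1 ξ = t ξ c.1 := rfl
      rw [h1, h2, hξc c]
      linear_combination (t ξ o) * (hε ξ hξ).1 - hcol ξ hξ o hoT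
    have h0 : ∑ y ∈ Finset.univ.filter (fun y => ¬ 2 ∣ orderOf y), Φ c y * Φ c y⁻¹ = 0 := by
      have hexp : ∀ y, Φ c y * Φ c y⁻¹ =
          (o : H → ℂ) y * (o : H → ℂ) y⁻¹ + (n c.1 : ℂ) * (n c.1) * ((c.1 : H → ℂ) y * (c.1 : H → ℂ) y⁻¹)
          + (ε ξ : ℂ) * ε ξ * ((ξ : H → ℂ) y * (ξ : H → ℂ) y⁻¹)
          + (n c.1 : ℂ) * ((o : H → ℂ) y * (c.1 : H → ℂ) y⁻¹ + (c.1 : H → ℂ) y * (o : H → ℂ) y⁻¹)
          + (ε ξ : ℂ) * ((o : H → ℂ) y * (ξ : H → ℂ) y⁻¹ + (ξ : H → ℂ) y * (o : H → ℂ) y⁻¹)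
          + (n c.1 : ℂ) * ε ξ * ((c.1 : H → ℂ) y * (ξ : H → ℂ) y⁻¹ + (ξ : H → ℂ) y * (c.1 : H → ℂ) y⁻¹) := by
        intro y; simp only [hΦdef, ho1]; ring
      rw [Finset.sum_congr rfl fun y _ => hexp y]
      simp only [Finset.sum_add_distrib, ← Finset.mul_sum, ← regS_eq_sum, hv]
      rw [hvsymm c.1 o, hvsymm ξ o, hvsymm ξ c.1]
      have key : v o o + n c.1 * n c.1 * v c.1 c.1 + ε ξ * ε ξ * v ξ ξ + n c.1 * (v o c.1 + v o c.1)
          + ε ξ * (v o ξ + v o ξ) + n c.1 * ε ξ * (v c.1 ξ + v c.1 ξ) = 0 := by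
        rw [e1, e2, e3, e4, hTn _ hcT, (hε ξ hξ).2]
        linear_combination 2 * e5 - 2 * hTn _ hcT
      have keyC := congrArg (fun z : ℤ => (z : ℂ)) key
      push_cast at keyC
      linear_combination (K : ℂ) * keyC
    have hpos : ∀ y, Φ c y * Φ c y⁻¹ = ((‖Φ c y‖ ^ 2 : ℝ) : ℂ) := by
      intro y
      have : Φ c y⁻¹ = conj (Φ c y) := by
        simp only [hΦdef, map_add, map_mul, map_intCast, map_one, ← hinv_arg]
      rw [this, Complex.mul_conj, Complex.normSq_eq_norm_sq]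
    rw [Finset.sum_congr rfl fun y _ => hpos y, ← Complex.ofReal_sum, Complex.ofReal_eq_zero,
      Finset.sum_eq_zero_iff_of_nonneg fun y _ => sq_nonneg _] at h0
    simpa using h0 g (Finset.mem_filter.2 ⟨Finset.mem_univ _, hg⟩)
  haveI : Nonempty {c // c ∈ T'} := by
    obtain ⟨c, hc⟩ := Finset.card_pos.1 (hT'card ▸ (by norm_num : 0 < 3))
    exact ⟨⟨c, hc⟩⟩
  have hdeg : ∀ χ : IrrCharacter H, ∃ d : ℕ, 0 < d ∧ (χ : H → ℂ) 1 = d := fun χ => irr_degree_pos χ.2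
  choose d hd0 hd using hdeg
  set m : {c // c ∈ T'} → ℤ := fun c => 1 + n c.1 * (d c.1 : ℤ) with hmdef
  have hmξ : ∀ c, (m c : ℂ) = -((ε (ξc c) : ℂ) * (ξc c : H → ℂ) 1) := by
    intro c
    have h := hΦreg c 1 (by rw [orderOf_one]; norm_num)
    simp only [hΦdef] at h
    simp only [hmdef]; push_cast
    rw [← hd]
    linear_combination h
  have hηT : ∀ g, η g = ∑ ψ ∈ T, (n ψ : ℂ) * (ψ : H → ℂ) g := fun g =>
    (Finset.sum_filter_of_ne (p := fun ψ => n ψ ≠ 0) fun ψ _ hne h0 => hne (by simp [h0])).symm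
  have hηsplit : ∀ g, η g = 1 + ∑ c : {c // c ∈ T'}, (n c.1 : ℂ) * (c.1 : H → ℂ) g := by
    intro g
    rw [hηT, ← Finset.add_sum_erase T _ hoT, hno, ho1, Int.cast_one, one_mul, ← hT',
      ← Finset.sum_coe_sort T']
  have hcoef : ∀ (A : IrrCharacter H → ℤ) (g : H),
      IsGeneralizedCharacter H (fun g => ∑ ψ, (A ψ : ℂ) * (ψ : H → ℂ) g) := by
    intro A _
    have e : (fun g => ∑ ψ, (A ψ : ℂ) * (ψ : H → ℂ) g) =
        ∑ ψ : IrrCharacter H, ((A ψ : ℤ) : ℂ) • (ψ : H → ℂ) := by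
      funext y; simp [Finset.sum_apply]
    rw [e]
    exact isGenChar_sum _ _ fun ψ _ => isGenChar_intSmul _ (isGenChar_of_char (isCharacter_of_irr ψ.2))
  have hinn : ∀ A B : IrrCharacter H → ℤ, classInner (fun g => ∑ ψ, (A ψ : ℂ) * (ψ : H → ℂ) g)
      (fun g => ∑ ψ, (B ψ : ℂ) * (ψ : H → ℂ) g) = ((∑ ψ, A ψ * B ψ : ℤ) : ℂ) := by
    intro A B
    simp only [classInner, map_sum, map_mul, map_intCast, ← hinv_arg, Finset.sum_mul_sum]
    rw [Finset.sum_comm, Finset.mul_sum, Int.cast_sum]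
    refine Finset.sum_congr rfl fun φ _ => ?_
    rw [Finset.sum_comm, Finset.mul_sum, Finset.sum_eq_single φ, Int.cast_mul]
    · rw [Finset.sum_congr rfl fun y _ => mul_mul_mul_comm (A φ : ℂ) _ (B φ : ℂ) _,
        ← Finset.mul_sum, hinner, if_pos rfl]
      field_simp [Nat.cast_ne_zero.2 (Nat.card_pos (α := H)).ne']
    · intro ψ _ hne
      rw [Finset.sum_congr rfl fun y _ => mul_mul_mul_comm (A φ : ℂ) _ (B ψ : ℂ) _,
        ← Finset.mul_sum, hinner, if_neg hne.symm, mul_zero, mul_zero]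
    · simp
  set Aη : IrrCharacter H → ℤ := fun ψ => if ψ ∈ T then n ψ else 0 with hAη
  set AΦ : {c // c ∈ T'} → IrrCharacter H → ℤ := fun c ψ =>
    (if ψ = o then 1 else 0) + (if ψ = c.1 then n c.1 else 0) +
      (if ψ = ξc c then ε (ξc c) else 0) with hAΦ
  set Ao : IrrCharacter H → ℤ := fun ψ => if ψ = o then 1 else 0 with hAo
  have eη : η = fun g => ∑ ψ, (Aη ψ : ℂ) * (ψ : H → ℂ) g := by
    funext g
    rw [hηT]
    simp [hAη, apply_ite (Int.cast : ℤ → ℂ), ite_mul, Finset.sum_ite_mem]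
  have eΦ : ∀ c, Φ c = fun g => ∑ ψ, (AΦ c ψ : ℂ) * (ψ : H → ℂ) g := fun c => by
    funext g
    simp [hΦdef, hAΦ, apply_ite (Int.cast : ℤ → ℂ), ite_mul, add_mul, Finset.sum_add_distrib, ho1]
  have eo : (fun _ : H => (1 : ℂ)) = fun g => ∑ ψ, (Ao ψ : ℂ) * (ψ : H → ℂ) g := by
    funext g
    simp [hAo, apply_ite (Int.cast : ℤ → ℂ), ite_mul, ho1]
  have hdisj : ∀ c, c.1 ≠ o ∧ ξc c ∉ T ∧ ξc c ≠ o ∧ ξc c ≠ c.1 := fun c => by
    obtain ⟨hcT, hco⟩ := hT'T c.1 c.2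
    have hξ : ξc c ∉ T := fun h => (Finset.mem_filter.1 h).2 (hFn _ (hξF c))
    exact ⟨hco, hξ, fun e => hξ (e ▸ hoT), fun e => hξ (e ▸ hcT)⟩
  refine ⟨{c // c ∈ T'}, inferInstance, inferInstance, inferInstance, η, Φ, m, eη ▸ hcoef Aη 1,
    fun c => eΦ c ▸ hcoef (AΦ c) 1,
    fun g hg => ⟨by rw [hηX, if_neg (hXreg g hg)], fun c => hΦreg c g hg⟩, ?_, ?_, ?_, ?_, ?_⟩
  · rw [eη, hinn]
    rw [← Finset.sum_subset (Finset.subset_univ T) (fun ψ _ h => by simp [hAη, h]),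
      Finset.sum_congr rfl fun ψ h => (by simp [hAη, h, hTn ψ h] : Aη ψ * Aη ψ = (1 : ℤ))]
    simp [hTcard]
  · rw [eη, eo, hinn]
    simp [hAη, hAo, hoT, hno]
  · intro c
    obtain ⟨hcT, -⟩ := hT'T c.1 c.2
    obtain ⟨hco, hξT, hξo', hξc'⟩ := hdisj c
    refine ⟨?_, ?_, ?_, ?_, ?_⟩
    · rw [eη, eΦ, hinn]
      simp [hAη, hAΦ, mul_add, Finset.sum_add_distrib, hoT, hcT, hξT, hno, hTn _ hcT]
    · rw [eΦ, eo, hinn]
      simp [hAo, hAΦ, mul_add, add_mul, Finset.sum_add_distrib, Ne.symm hco, Ne.symm hξo']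
    · rw [eΦ, hinn]
      simp [hAΦ, mul_add, add_mul, Finset.sum_add_distrib, hco, Ne.symm hco, hξo', Ne.symm hξo',
        hξc', Ne.symm hξc', hTn _ hcT, (hε _ (hξF c)).2]
    · intro h
      have := hmξ c
      rw [h, Int.cast_zero, eq_comm, neg_eq_zero, mul_eq_zero] at this
      rcases this with h' | h'
      · have h2 := (hε _ (hξF c)).2
        rw [Int.cast_eq_zero.1 h'] at h2
        norm_num at h2
      · exact irr_one_ne_zero _ h'
    · intro h
      simp only [hmdef, add_eq_left, mul_eq_zero] at h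
      rcases h with h' | h'
      · exact (Finset.mem_filter.1 hcT).2 h'
      · have := hd0 c.1; omega
  · intro c c' hne
    obtain ⟨hcT, -⟩ := hT'T c.1 c.2
    obtain ⟨hc'T, -⟩ := hT'T c'.1 c'.2
    obtain ⟨hco, hξT, hξo', hξc'⟩ := hdisj c
    obtain ⟨hco2, hξT2, hξo2, hξc2⟩ := hdisj c'
    have h1 : c.1 ≠ c'.1 := fun e => hne (Subtype.ext e)
    have h2 : ξc c ≠ ξc c' := fun e => hne (hinj e)
    have h3 : c.1 ≠ ξc c' := fun e => hξT2 (e ▸ hcT)
    have h4 : c'.1 ≠ ξc c := fun e => hξT (e ▸ hc'T)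
    rw [eΦ, eΦ, hinn]
    simp [hAΦ, mul_add, add_mul, Finset.sum_add_distrib, hco, Ne.symm hco, hco2, Ne.symm hco2, hξo',
      Ne.symm hξo', hξo2, Ne.symm hξo2, h1, Ne.symm h1, h2, Ne.symm h2, h3, Ne.symm h3, h4,
      Ne.symm h4]
  · intro g
    have hval : ∀ ψ : IrrCharacter H, (ψ : H → ℂ) u = (s ψ : ℂ) * (ψ : H → ℂ) 1 := fun ψ => by
      have := hshift ψ 1; rwa [mul_one] at this
    rw [← Finset.sum_filter_add_sum_filter_not Bs (fun ψ => n ψ ≠ 0), ← hT, ← hF, ← himage,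
      Finset.sum_image (fun _ _ _ _ e => hinj e), ← Finset.add_sum_erase T _ hoT, ← hT',
      ← Finset.sum_coe_sort T', hηsplit]
    have hsum2 : (∑ c, (m c : ℂ)) = 2 := by
      have h := hηsplit 1
      rw [hηX, if_neg (hXreg 1 (by rw [orderOf_one]; norm_num))] at h
      simp only [hmdef]
      push_cast
      simp only [← hd, Finset.sum_add_distrib, Finset.sum_const, Finset.card_univ, Fintype.card_coe,
        hT'card]
      linear_combination -h
    have hterm : ∀ c : {c // c ∈ T'}, (m c : ℂ) * Φ c g = (m c : ℂ) +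
        ((c.1 : H → ℂ) u * (c.1 : H → ℂ) g + (n c.1 : ℂ) * (c.1 : H → ℂ) g) +
        (ξc c : H → ℂ) u * (ξc c : H → ℂ) g := by
      intro c
      obtain ⟨hcT, -⟩ := hT'T c.1 c.2
      have hnn : (n c.1 : ℂ) * (n c.1 : ℂ) = 1 := by exact_mod_cast hTn _ hcT
      have hεε : (ε (ξc c) : ℂ) * (ε (ξc c) : ℂ) = 1 := by exact_mod_cast (hε _ (hξF c)).2
      rw [hval, hval, hTs _ hcT, hFs _ (hξF c)]
      have hm1 : (m c : ℂ) = 1 + (n c.1 : ℂ) * (c.1 : H → ℂ) 1 := by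
        rw [hd]; simp only [hmdef]; push_cast; ring
      have hm2 := hmξ c
      simp only [hΦdef]
      push_cast
      linear_combination ((n c.1 : ℂ) * (c.1 : H → ℂ) g) * hm1 +
        ((ε (ξc c) : ℂ) * (ξc c : H → ℂ) g) * hm2 + ((c.1 : H → ℂ) 1 * (c.1 : H → ℂ) g) * hnn -
        ((ξc c : H → ℂ) 1 * (ξc c : H → ℂ) g) * hεε
    rw [Finset.sum_congr rfl fun c _ => hterm c, Finset.sum_add_distrib, Finset.sum_add_distrib,
      Finset.sum_add_distrib, hsum2, hval o, hso, ho1, ho1]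
    push_cast
    ring

end CfsgLib.ZStar
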